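import Cfsg.Agent.Known.AutPSLn.Basic

/-!
The centre of a Sylow `p`-subgroup of `PSL n q` is a root group, so automorphisms permute root groups.
-/

namespace Cfsg.Lib.Known.AutPSLn

open Matrix Cfsg.Lib.Known.ThreeUnipotents

variable {F : Type*} [Field F] {n : ℕ}

local notation "SLn" => Matrix.SpecialLinearGroup (Fin n) F
local notation "Pn" => Matrix.ProjectiveSpecialLinearGroup (Fin n) F

/-- Upper unitriangular. -/
def IsUpperUni (M : Matrix (Fin n) (Fin n) F) : Prop := ∀ i j : Fin n, j ≤ i → M i j = if i = j then 1 else 0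

theorem IsUpperUni.mul {M N : Matrix (Fin n) (Fin n) F} (hM : IsUpperUni M) (hN : IsUpperUni N) :
    IsUpperUni (M * N) := by
  intro i j hji
  rw [Matrix.mul_apply, Finset.sum_eq_single i]
  · rw [hM i i le_rfl, if_pos rfl, one_mul, hN i j hji]
  · intro k _ hki
    rcases lt_or_gt_of_ne hki with h | h
    · rw [hM i k h.le, if_neg hki.symm, zero_mul]
    · rw [hN k j (hji.trans h.le), if_neg (fun e : k = j => (e ▸ h).not_ge hji), mul_zero]
  · simp

/-- The upper unitriangular group. -/
noncomputable def upperUni [Fintype F] : Subgroup SLn :=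
  { carrier := {M | IsUpperUni (M : Matrix (Fin n) (Fin n) F)}
    mul_mem' := fun ha hb => IsUpperUni.mul ha hb
    one_mem' := fun i j _ => by simp [Matrix.one_apply]
    inv_mem' := fun {M} hM => by
      have hpow : ∀ k : ℕ, IsUpperUni ((M ^ k : SLn) : Matrix (Fin n) (Fin n) F) := by
        intro k
        induction k with
        | zero => intro i j _; simp [Matrix.one_apply]
        | succ k ih => rw [pow_succ, cmul]; exact ih.mul hM
      rw [Set.mem_setOf_eq, ← pow_card_sub_one_eq_inv' M]
      exact hpow _ }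
where
  pow_card_sub_one_eq_inv' [Fintype F] (M : SLn) : M ^ (orderOf M - 1) = M⁻¹ := by
    refine eq_inv_of_mul_eq_one_left ?_
    rw [← pow_succ, Nat.sub_add_cancel (orderOf_pos M), pow_orderOf_eq_one]

theorem card_lt_pairs (n : ℕ) : Nat.card {p : Fin n × Fin n // p.1 < p.2} = n * (n - 1) / 2 := by
  rw [Nat.card_congr (β := Σ j : Fin n, Fin j.1)
    { toFun := fun p => ⟨p.1.2, ⟨p.1.1.1, p.2⟩⟩
      invFun := fun s => ⟨(⟨s.2.1, s.2.2.trans s.1.2⟩, s.1), s.2.2⟩
      left_inv := fun _ => rfl
      right_inv := fun _ => rfl }]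
  rw [Nat.card_eq_fintype_card, Fintype.card_sigma, ← Finset.sum_range_id, ← Fin.sum_univ_eq_sum_range (fun i => i)]
  simp

variable [Fintype F]

theorem card_upperUni : Nat.card (upperUni (F := F) (n := n)) = Fintype.card F ^ (n * (n - 1) / 2) := by
  classical
  have hdet : ∀ f : {p : Fin n × Fin n // p.1 < p.2} → F,
      (Matrix.of fun i j : Fin n => if h : i < j then f ⟨(i, j), h⟩ else if i = j then 1 else 0).det = 1 := by
    intro f
    rw [Matrix.det_of_isUpperTriangular]
    · simp
    · intro i j h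
      have h' : j < i := h
      simp [h'.ne', not_lt.2 h'.le]
  let mk : ({p : Fin n × Fin n // p.1 < p.2} → F) → SLn := fun f =>
    ⟨Matrix.of fun i j : Fin n => if h : i < j then f ⟨(i, j), h⟩ else if i = j then 1 else 0, hdet f⟩
  have hmk : ∀ f, mk f ∈ upperUni (F := F) (n := n) := fun f i j hji => by simp [mk, not_lt.2 hji]
  rw [Nat.card_congr (β := {p : Fin n × Fin n // p.1 < p.2} → F)
    { toFun := fun M p => (M.1 : Matrix (Fin n) (Fin n) F) p.1.1 p.1.2
      invFun := fun f => ⟨mk f, hmk f⟩
      left_inv := fun M => by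
        apply Subtype.ext; apply Subtype.ext
        ext i j
        by_cases h : i < j
        · simp [mk, h]
        · simp only [mk, Matrix.of_apply, h, dite_false]
          exact (M.2 i j (not_lt.1 h)).symm
      right_inv := fun f => funext fun p => by simp [mk, p.2] },
    Nat.card_fun, card_lt_pairs, Nat.card_eq_fintype_card]

theorem exists_sylow_upperUni (p : ℕ) [Fact p.Prime] [CharP F p] :
    ∃ Q : Sylow p SLn, (Q : Subgroup SLn) = upperUni := by
  obtain ⟨m, hprime, hm⟩ := FiniteField.card F p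
  have hQ : IsPGroup p (upperUni (F := F) (n := n)) := IsPGroup.of_card (n := (m : ℕ) * (n * (n - 1) / 2)) (by
    rw [card_upperUni, hm, ← pow_mul])
  obtain ⟨Q, hQle⟩ := hQ.exists_le_sylow
  refine ⟨Q, (Subgroup.eq_of_le_of_card_ge hQle ?_).symm⟩
  obtain ⟨R, hR⟩ := (Q.2.map SpecialLinearGroup.toGL).exists_le_sylow
  have h1 := Nat.le_of_dvd Nat.card_pos (Subgroup.card_dvd_of_le hR)
  rw [Cfsg.Lib.Classical.card_sylow_GL p n R] at h1
  rw [card_upperUni]
  refine le_trans (le_of_eq ?_) h1
  exact Nat.card_congr ((Q : Subgroup SLn).equivMapOfInjective _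
    (fun a b h => Subtype.ext (congrArg Units.val h))).toEquiv

theorem upperUni_transvection {i j : Fin n} (hij : i < j) (x : F) :
    SpecialLinearGroup.transvection hij.ne x ∈ upperUni (F := F) (n := n) := by
  intro r s hrs
  rw [transv_eq]
  by_cases h : r = i ∧ s = j
  · exact absurd (h.1 ▸ h.2 ▸ hrs) hij.not_ge
  · rw [Matrix.add_apply, Matrix.one_apply, Matrix.smul_apply, vecMulVec_apply, Pi.single_apply, Pi.single_apply,
      smul_eq_mul]
    rcases not_and_or.1 h with h | h <;> simp [h]

/-- The centre of the standard Sylow subgroup. -/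
theorem center_upperUni (hn : 3 ≤ n) :
    (Subgroup.center ((upperUni (F := F) (n := n)).map (π (F := F) (n := n)))).map
        ((upperUni (F := F) (n := n)).map (π (F := F) (n := n))).subtype =
      (rootHom (Pi.single (⟨0, by omega⟩ : Fin n) (1 : F)) (Pi.single ⟨n - 1, by omega⟩ 1)
        (by rw [single_dotProduct, one_mul, Pi.single_eq_of_ne]; simp only [ne_eq, Fin.ext_iff]; omega)).range := by
  classical
  set i0 : Fin n := ⟨0, by omega⟩
  set il : Fin n := ⟨n - 1, by omega⟩
  have h0l : i0 < il := Fin.lt_def.2 (by simp [i0, il]; omega)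
  have hfix : ∀ M ∈ upperUni (F := F) (n := n), (M : Matrix (Fin n) (Fin n) F) *ᵥ Pi.single i0 1 = Pi.single i0 1 := by
    intro M hM
    ext i
    rw [mulVec_single_one]
    simp only [Matrix.col_apply]
    rw [hM i i0 (Fin.le_def.2 (by simp [i0])), Pi.single_apply]
  ext g
  constructor
  · rintro ⟨⟨x, hx⟩, hc, rfl⟩
    obtain ⟨M, hM, rfl⟩ := hx
    have key : ∀ (i j : Fin n) (hij : i < j),
        (M : Matrix (Fin n) (Fin n) F) * vecMulVec (Pi.single i 1) (Pi.single j 1) =
          vecMulVec (Pi.single i 1) (Pi.single j 1) * (M : Matrix (Fin n) (Fin n) F) := by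
      intro i j hij
      set E := SpecialLinearGroup.transvection hij.ne (1 : F)
      have hE := upperUni_transvection hij (1 : F)
      have h1 := congrArg Subtype.val (Subgroup.mem_center_iff.1 hc ⟨π E, E, hE, rfl⟩)
      have h2 : π (E * M) = π (M * E) := by rw [map_mul, map_mul]; exact h1
      have h3 := π_eq_of_fix h2 (Pi.single_ne_zero_iff.2 one_ne_zero) (hfix _ (Subgroup.mul_mem _ hE hM))
        (hfix _ (Subgroup.mul_mem _ hM hE))
      have h4 : (E : Matrix (Fin n) (Fin n) F) * (M : Matrix (Fin n) (Fin n) F) =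
          (M : Matrix (Fin n) (Fin n) F) * (E : Matrix (Fin n) (Fin n) F) := congrArg Subtype.val h3
      rw [transv_eq, one_smul, mul_add, mul_one, add_mul, one_mul] at h4
      exact (add_left_cancel h4).symm
    refine ⟨Multiplicative.ofAdd ((M : Matrix (Fin n) (Fin n) F) i0 il), congrArg π (Subtype.ext ?_)⟩
    ext r s
    show (1 + (M : Matrix (Fin n) (Fin n) F) i0 il • vecMulVec (Pi.single i0 1) (Pi.single il 1) :
      Matrix (Fin n) (Fin n) F) r s = (M : Matrix (Fin n) (Fin n) F) r s
    rcases le_or_gt s r with h | h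
    · rw [hM r s h, Matrix.add_apply, Matrix.one_apply, Matrix.smul_apply, vecMulVec_apply]
      have : ¬ (r = i0 ∧ s = il) := fun e => absurd (e.1 ▸ e.2 ▸ h) h0l.not_ge
      rcases not_and_or.1 this with e | e <;> simp [e]
    · rw [Matrix.add_apply, Matrix.one_apply, if_neg h.ne, Matrix.smul_apply, vecMulVec_apply, zero_add]
      by_cases hr : r = i0
      · subst hr
        by_cases hs : s = il
        · subst hs; simp
        · -- `s` is not the last index
          have hsl : s < il := lt_of_le_of_ne (Fin.le_def.2 (by simp [il]; omega)) hs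
          have := congrFun (congrFun (key s il hsl) i0) il
          rw [mul_vecMulVec, vecMulVec_mul, vecMulVec_apply, vecMulVec_apply, mulVec_single_one] at this
          simp [h.ne] at this
          simp [this, hs]
      · have hr0 : i0 < r := lt_of_le_of_ne (Fin.le_def.2 (by simp [i0])) (Ne.symm hr)
        have := congrFun (congrFun (key i0 r hr0) i0) s
        rw [mul_vecMulVec, vecMulVec_mul, vecMulVec_apply, vecMulVec_apply, single_one_vecMul] at this
        simp [h.ne'] at this
        simp [hr, ← this]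
  · rintro ⟨x, rfl⟩
    set R := rankOne (Pi.single i0 (1 : F)) (Pi.single il 1) (by simp [h0l.ne]) x.toAdd
    have hR : R ∈ upperUni (F := F) (n := n) := by
      rw [show R = SpecialLinearGroup.transvection h0l.ne x.toAdd from rankOne_single h0l.ne _]
      exact upperUni_transvection h0l _
    refine ⟨⟨π R, R, hR, rfl⟩, ?_, rfl⟩
    rw [SetLike.mem_coe, Subgroup.mem_center_iff]
    rintro ⟨_, M, hM, rfl⟩
    apply Subtype.ext
    change π M * π R = π R * π M
    rw [← map_mul, ← map_mul]
    congr 1
    apply Subtype.ext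
    change (M : Matrix (Fin n) (Fin n) F) * (1 + x.toAdd • vecMulVec (Pi.single i0 1) (Pi.single il 1)) =
      (1 + x.toAdd • vecMulVec (Pi.single i0 1) (Pi.single il 1)) * (M : Matrix (Fin n) (Fin n) F)
    have hlast : Pi.single il (1 : F) ᵥ* (M : Matrix (Fin n) (Fin n) F) = Pi.single il 1 := by
      ext j
      rw [single_one_vecMul]
      simp only [Matrix.row_apply]
      rw [hM il j (Fin.le_def.2 (by simp [il]; omega)), Pi.single_apply]
      simp [eq_comm]
    rw [mul_add, mul_one, add_mul, one_mul, mul_smul_comm, smul_mul_assoc, mul_vecMulVec, vecMulVec_mul, hfix M hM, hlast]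

/-- Automorphisms permute the root groups. -/
theorem exists_isRootGroup_map (hn : 3 ≤ n) (β : MulAut Pn) {Z : Subgroup Pn} {v ψ : Fin n → F}
    (h : IsRootGroup Z v ψ) : ∃ w χ, IsRootGroup (Z.map β.toMonoidHom) w χ := by
  classical
  obtain ⟨p, hp⟩ := CharP.exists F
  obtain ⟨m, hprime, -⟩ := FiniteField.card F p
  have := Fact.mk hprime
  have hsurj : Function.Surjective (π (F := F) (n := n)) := QuotientGroup.mk'_surjective _
  obtain ⟨Q, hQ⟩ := exists_sylow_upperUni (F := F) (n := n) p
  set i0 : Fin n := ⟨0, by omega⟩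
  set il : Fin n := ⟨n - 1, by omega⟩
  have h0l : i0 ≠ il := by simp [i0, il, Fin.ext_iff]; omega
  have hd : Pi.single il (1 : F) ⬝ᵥ Pi.single i0 1 = 0 := by simp [h0l]
  set Z0 := (rootHom (Pi.single i0 (1 : F)) (Pi.single il 1) hd).range
  have hZ0 : IsRootGroup Z0 (Pi.single i0 1) (Pi.single il 1) :=
    isRootGroup_range (by simp) (by simp) _
  -- the standard root group goes to a root group
  obtain ⟨w, χ, hstd⟩ : ∃ w χ, IsRootGroup (Z0.map β.toMonoidHom) w χ := by
    let P : Sylow p Pn := Q.mapSurjective hsurj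
    let P' : Sylow p Pn := P.mapSurjective (f := β.toMonoidHom) β.surjective
    obtain ⟨g, hg⟩ := MulAction.exists_smul_eq Pn P P'
    obtain ⟨M, rfl⟩ := QuotientGroup.mk_surjective g
    refine ⟨(SpecialLinearGroup.toGL M : GL (Fin n) F).val *ᵥ Pi.single i0 1,
      Pi.single il 1 ᵥ* ((SpecialLinearGroup.toGL M)⁻¹ : GL (Fin n) F).val, ?_⟩
    have key : ∀ (H : Subgroup Pn) (e : MulAut Pn),
        (Subgroup.center (H.map e.toMonoidHom)).map (H.map e.toMonoidHom).subtype =
          ((Subgroup.center H).map H.subtype).map e.toMonoidHom := by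
      intro H e
      ext x
      constructor
      · rintro ⟨⟨_, y, hy, rfl⟩, hc, rfl⟩
        refine ⟨y, ⟨⟨y, hy⟩, ?_, rfl⟩, rfl⟩
        rw [SetLike.mem_coe, Subgroup.mem_center_iff]
        rintro ⟨z, hz⟩
        apply Subtype.ext
        apply e.injective
        have := congrArg Subtype.val (Subgroup.mem_center_iff.1 hc ⟨_, z, hz, rfl⟩)
        change e (z * y) = e (y * z)
        rw [map_mul, map_mul]
        exact this
      · rintro ⟨_, ⟨⟨y, hy⟩, hc, rfl⟩, rfl⟩
        refine ⟨⟨_, y, hy, rfl⟩, ?_, rfl⟩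
        rw [SetLike.mem_coe, Subgroup.mem_center_iff]
        rintro ⟨_, z, hz, rfl⟩
        apply Subtype.ext
        have := congrArg Subtype.val (Subgroup.mem_center_iff.1 hc ⟨z, hz⟩)
        change e z * e y = e y * e z
        rw [← map_mul, ← map_mul]
        exact congrArg e this
    have hP : (P : Subgroup Pn) = (upperUni (F := F) (n := n)).map π := by rw [Sylow.coe_mapSurjective, hQ]
    have e1 : ((upperUni (F := F) (n := n)).map π).map β.toMonoidHom =
        ((upperUni (F := F) (n := n)).map π).map (conjP (SpecialLinearGroup.toGL M)).toMonoidHom := by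
      rw [← hP, conjP_toGL, show (P : Subgroup Pn).map β.toMonoidHom = (P' : Subgroup Pn) from
        (Sylow.coe_mapSurjective β.surjective P).symm, ← hg]
      rfl
    have e2 := congrArg (fun H : Subgroup Pn => (Subgroup.center H).map H.subtype) e1
    simp only [key, center_upperUni hn] at e2
    rw [e2]
    exact hZ0.map_conjP _
  obtain ⟨g, c, hc, hg1, hg2⟩ := exists_conj_standard hn h.hv h.hψ h.perp
  set G := SpecialLinearGroup.toGL g
  have hZG : Z = Z0.map (conjP G).toMonoidHom := by
    have h1 := hZ0.map_conjP G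
    have e1 : (G : Matrix (Fin n) (Fin n) F) *ᵥ Pi.single i0 1 = v := hg1
    have e2 : Pi.single il (1 : F) ᵥ* ((G⁻¹ : GL (Fin n) F) : Matrix (Fin n) (Fin n) F) = c⁻¹ • ψ := by
      have : ψ ᵥ* (G : Matrix (Fin n) (Fin n) F) = c • Pi.single il 1 := hg2
      rw [eq_inv_smul_iff₀ hc, ← smul_vecMul, ← this, vecMul_vecMul, ← Units.val_mul, mul_inv_cancel,
        Units.val_one, vecMul_one]
    rw [e1, e2] at h1
    have h2 := h1.smul one_ne_zero hc
    rw [one_smul, smul_smul, mul_inv_cancel₀ hc, one_smul] at h2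
    rw [h.eq, h2.eq]
  obtain ⟨B, hB⟩ := QuotientGroup.mk_surjective (β (π g))
  refine ⟨(SpecialLinearGroup.toGL B : GL (Fin n) F).val *ᵥ w,
    χ ᵥ* ((SpecialLinearGroup.toGL B)⁻¹ : GL (Fin n) F).val, ?_⟩
  have e : Z.map β.toMonoidHom = (Z0.map β.toMonoidHom).map (conjP (SpecialLinearGroup.toGL B)).toMonoidHom := by
    rw [hZG, Subgroup.map_map, Subgroup.map_map]
    congr 1
    ext x
    change β (conjP G x) = conjP (SpecialLinearGroup.toGL B) (β x)
    rw [conjP_toGL, conjP_toGL, MulAut.conj_apply, MulAut.conj_apply, map_mul, map_mul, map_inv]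
    rw [show π B = β (π g) from hB]
  rw [e]
  exact hstd.map_conjP _

end Cfsg.Lib.Known.AutPSLn
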