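import Cfsg.Agent.Known.AutPSLn.Named

/-!
`Out (PSL n q)` for `n ≥ 3`.
-/

namespace Cfsg.Lib.Known.AutPSLn

open Matrix Cfsg.Lib.Known.ThreeUnipotents

variable {F : Type*} [Field F] [Fintype F] {n : ℕ}

local notation "SLn" => Matrix.SpecialLinearGroup (Fin n) F
local notation "Pn" => Matrix.ProjectiveSpecialLinearGroup (Fin n) F

omit [Fintype F] in
theorem fieldP_comm_graphP (σ : F ≃+* F) : Commute (fieldP σ : MulAut Pn) graphP := by
  show fieldP σ * graphP = graphP * fieldP σ
  rw [graphP, fieldP, MonoidHom.comp_apply, ← map_mul, ← map_mul]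
  congr 1
  refine MulEquiv.ext fun M => ?_
  change Matrix.SpecialLinearGroup.map σ.toRingHom (SpecialLinearGroup.transpose M⁻¹) =
    SpecialLinearGroup.transpose (Matrix.SpecialLinearGroup.map σ.toRingHom M)⁻¹
  rw [← map_inv]
  exact Subtype.ext (Matrix.transpose_map).symm

/-- `diag (a, 1, …, 1)`. -/
def diagFirst (hn : 3 ≤ n) : Fˣ →* GL (Fin n) F :=
  MonoidHom.toHomUnits
    { toFun := fun a => Matrix.diagonal (Pi.mulSingle (⟨0, by omega⟩ : Fin n) (a : F))
      map_one' := by rw [Units.val_one, Pi.mulSingle_one]; exact Matrix.diagonal_one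
      map_mul' := fun a b => by
        rw [Units.val_mul, Pi.mulSingle_mul, Matrix.diagonal_mul_diagonal]; rfl }

omit [Fintype F] in
theorem det_diagFirst (hn : 3 ≤ n) (a : Fˣ) :
    ((diagFirst hn a : GL (Fin n) F) : Matrix (Fin n) (Fin n) F).det = a := by
  show (Matrix.diagonal _).det = _
  rw [Matrix.det_diagonal, Finset.prod_pi_mulSingle']
  simp

omit [Fintype F] in
theorem map_fieldP_elemRoot (σ : F ≃+* F) {i j : Fin n} (h : i ≠ j) :
    (elemRoot (F := F) h).map (fieldP σ : MulAut Pn).toMonoidHom = elemRoot (F := F) h := by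
  have key : ∀ x : F, fieldSL σ (rankOne (Pi.single i 1) (Pi.single j 1) (by simp [h]) x : SLn) =
      rankOne (Pi.single i 1) (Pi.single j 1) (by simp [h]) (σ x) := by
    intro x
    apply Subtype.ext
    rw [coe_fieldSL, coe_rankOne, coe_rankOne]
    ext r s
    simp only [Matrix.map_apply, Matrix.add_apply, Matrix.one_apply, Matrix.smul_apply, vecMulVec_apply,
      Pi.single_apply, smul_eq_mul, map_add, map_mul, apply_ite σ, map_one, map_zero]
  rw [elemRoot, MonoidHom.map_range]
  ext y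
  constructor
  · rintro ⟨x, rfl⟩
    exact ⟨Multiplicative.ofAdd (σ x.toAdd), (congrArg π (key x.toAdd)).symm⟩
  · rintro ⟨x, rfl⟩
    refine ⟨Multiplicative.ofAdd (σ.symm x.toAdd), (congrArg π (key (σ.symm x.toAdd))).trans ?_⟩
    rw [σ.apply_symm_apply]
    rfl

/-- Recognising inner automorphisms. -/
theorem inner_imp (hn : 3 ≤ n) {g : GL (Fin n) F} {σ : F ≃+* F} {γ : MulAut Pn} (hγ : γ = 1 ∨ γ = graphP) {x : Pn}
    (h : conjP g * fieldP σ * γ = MulAut.conj x) :
    γ = 1 ∧ σ = 1 ∧ ∃ b : F, b ≠ 0 ∧ b ^ n = (g : Matrix (Fin n) (Fin n) F).det := by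
  classical
  obtain ⟨M, rfl⟩ := QuotientGroup.mk_surjective x
  set A : GL (Fin n) F := (SpecialLinearGroup.toGL M)⁻¹ * g with hA
  have h1 : conjP A * fieldP σ * γ = 1 := by
    rw [hA, map_mul, map_inv, conjP_toGL, mul_assoc, mul_assoc, ← mul_assoc (conjP g), h]
    exact inv_mul_cancel _
  have hAinv : ((A⁻¹ : GL (Fin n) F) : Matrix (Fin n) (Fin n) F) * (A : Matrix (Fin n) (Fin n) F) = 1 := A.inv_mul
  set i0 : Fin n := ⟨0, by omega⟩
  set i1 : Fin n := ⟨1, by omega⟩
  set i2 : Fin n := ⟨2, by omega⟩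
  have h01 : i0 ≠ i1 := by simp [i0, i1, Fin.ext_iff]
  have h02 : i0 ≠ i2 := by simp [i0, i2, Fin.ext_iff]
  have h12 : i1 ≠ i2 := by simp [i1, i2, Fin.ext_iff]
  have hγ1 : γ = 1 := by
    refine hγ.resolve_right fun hg => ?_
    subst hg
    have key : ∀ {i j : Fin n} (hij : i ≠ j), ∃ c : F,
        Pi.single i (1 : F) = c • ((A : Matrix (Fin n) (Fin n) F) *ᵥ Pi.single j 1) := by
      intro i j hij
      have e : (elemRoot (F := F) hij).map (conjP A * fieldP σ * graphP).toMonoidHom =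
          (((elemRoot (F := F) hij).map graphP.toMonoidHom).map (fieldP σ).toMonoidHom).map (conjP A).toMonoidHom := by
        rw [Subgroup.map_map, Subgroup.map_map]; rfl
      have hg : (elemRoot (F := F) hij).map graphP.toMonoidHom = elemRoot (F := F) hij.symm := by
        rw [((isRootGroup_elemRoot hij).map_graphP).eq]; rfl
      rw [h1, hg, map_fieldP_elemRoot, show (elemRoot (F := F) hij).map (1 : MulAut Pn).toMonoidHom =
        elemRoot (F := F) hij from Subgroup.map_id _] at e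
      have hc := (isRootGroup_elemRoot (F := F) hij.symm).map_conjP A
      rw [← e] at hc
      obtain ⟨⟨c, -, hc'⟩, -⟩ := hc.unique hn (isRootGroup_elemRoot hij)
      exact ⟨c, hc'⟩
    obtain ⟨c1, e1⟩ := key h01
    obtain ⟨c2, e2⟩ := key h02
    have e := congrArg (((A⁻¹ : GL (Fin n) F) : Matrix (Fin n) (Fin n) F) *ᵥ ·) (e1.symm.trans e2)
    simp only [mulVec_smul, mulVec_mulVec, hAinv, one_mulVec] at e
    have h' := congrFun e i1
    simp [h12] at h'
    rw [h', zero_smul] at e1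
    exact Pi.single_ne_zero_iff.2 one_ne_zero e1
  subst hγ1
  rw [mul_one] at h1
  have hrel : ∀ {i j : Fin n} (hij : i ≠ j) (x : F),
      σ x • vecMulVec ((A : Matrix (Fin n) (Fin n) F) *ᵥ Pi.single i 1)
          (Pi.single j 1 ᵥ* ((A⁻¹ : GL (Fin n) F) : Matrix (Fin n) (Fin n) F)) =
        x • vecMulVec (Pi.single i (1 : F)) (Pi.single j 1) := by
    intro i j hij x
    have hp : (Pi.single j 1 ᵥ* ((A⁻¹ : GL (Fin n) F) : Matrix (Fin n) (Fin n) F)) ⬝ᵥ
        ((A : Matrix (Fin n) (Fin n) F) *ᵥ Pi.single i 1) = 0 := by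
      rw [dotProduct_mulVec, vecMul_vecMul, hAinv, vecMul_one]; simp [hij]
    have hd : Pi.single j (1 : F) ⬝ᵥ Pi.single i 1 = 0 := by simp [hij]
    refine π_rankOne_inj hn (h := hp) (h' := hd) ?_
    have h2 := MulEquiv.congr_fun h1 (π (rankOne (Pi.single i 1) (Pi.single j 1) hd x))
    rw [MulAut.mul_apply, fieldP_apply, conjP_apply] at h2
    refine Eq.trans (congrArg π (Subtype.ext ?_)) h2
    rw [coe_conjSL, coe_fieldSL, coe_rankOne, coe_rankOne]
    have : ((1 : Matrix (Fin n) (Fin n) F) + x • vecMulVec (Pi.single i 1) (Pi.single j 1)).map σ =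
        1 + σ x • vecMulVec (Pi.single i 1) (Pi.single j 1) := by
      ext r s
      simp only [Matrix.map_apply, Matrix.add_apply, Matrix.one_apply, Matrix.smul_apply, vecMulVec_apply,
        Pi.single_apply, smul_eq_mul, map_add, map_mul, apply_ite σ, map_one, map_zero]
    rw [this, mul_add, mul_one, add_mul, A.mul_inv, mul_smul_comm, smul_mul_assoc, mul_vecMulVec, vecMulVec_mul]
  have hone : ∀ {i j : Fin n} (hij : i ≠ j),
      vecMulVec ((A : Matrix (Fin n) (Fin n) F) *ᵥ Pi.single i 1)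
          (Pi.single j 1 ᵥ* ((A⁻¹ : GL (Fin n) F) : Matrix (Fin n) (Fin n) F)) =
        vecMulVec (Pi.single i (1 : F)) (Pi.single j 1) := fun hij => by
    have := hrel hij 1; rwa [map_one, one_smul, one_smul] at this
  have hσ : σ = 1 := by
    refine RingEquiv.ext fun x => ?_
    have := hrel h01 x
    rw [hone h01] at this
    exact smul_left_injective F (vecMulVec_ne_zero (Pi.single_ne_zero_iff.2 one_ne_zero)
      (Pi.single_ne_zero_iff.2 one_ne_zero)) this
  have hAe : ∀ i : Fin n, ∃ c : F, (A : Matrix (Fin n) (Fin n) F) *ᵥ Pi.single i 1 = c • Pi.single i 1 := by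
    intro i
    obtain ⟨j, hij⟩ := exists_ne_fin hn i
    have := congrArg (fun N : Matrix (Fin n) (Fin n) F => N *ᵥ ((A : Matrix (Fin n) (Fin n) F) *ᵥ Pi.single j 1))
      (hone hij)
    simp only [vecMulVec_mulVec] at this
    rw [dotProduct_mulVec (Pi.single j 1 ᵥ* _), vecMul_vecMul, hAinv, vecMul_one] at this
    refine ⟨((A : Matrix (Fin n) (Fin n) F) *ᵥ Pi.single j 1) j, ?_⟩
    simpa using this
  choose c hc using hAe
  have hcc : ∀ {i j : Fin n}, i ≠ j → c i = c j := by
    intro i j hij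
    have := congrArg (fun N : Matrix (Fin n) (Fin n) F => N *ᵥ ((A : Matrix (Fin n) (Fin n) F) *ᵥ Pi.single j 1))
      (hone hij)
    simp only [vecMulVec_mulVec] at this
    rw [dotProduct_mulVec (Pi.single j 1 ᵥ* _), vecMul_vecMul, hAinv, vecMul_one, hc i, hc j] at this
    simpa using congrFun this i
  have hAd : (A : Matrix (Fin n) (Fin n) F) = Matrix.diagonal fun _ => c i0 := by
    ext r s
    have := congrFun (hc s) r
    rw [mulVec_single_one, Matrix.col_apply] at this
    rw [this]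
    rcases eq_or_ne r s with rfl | hrs
    · rcases eq_or_ne r i0 with rfl | hr <;> simp [*]
      exact hcc hr
    · simp [hrs]
  refine ⟨rfl, hσ, c i0, fun h0 => ?_, ?_⟩
  · have := hAinv
    rw [hAd, h0, Matrix.diagonal_zero, mul_zero] at this
    exact zero_ne_one (congrFun (congrFun this i0) i0 |>.trans (Matrix.one_apply_eq i0))
  · have hg : (g : Matrix (Fin n) (Fin n) F) = (M : Matrix (Fin n) (Fin n) F) * (A : Matrix (Fin n) (Fin n) F) := by
      rw [show (M : Matrix (Fin n) (Fin n) F) = ((SpecialLinearGroup.toGL M : GL (Fin n) F) : Matrix (Fin n) (Fin n) F)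
        from rfl, ← Units.val_mul, hA, mul_inv_cancel_left]
    rw [hg, Matrix.det_mul, M.2, one_mul, hAd, Matrix.det_diagonal, Finset.prod_const, Finset.card_univ,
      Fintype.card_fin]

/-- The outer automorphism group. -/
theorem exists_hom_out (p : ℕ) [Fact p.Prime] [CharP F p] {f : ℕ} (hF : Fintype.card F = p ^ f) (hn : 3 ≤ n) :
    ∃ φ : Cfsg.Out Pn →* Multiplicative (ZMod f × ZMod 2), Function.Surjective φ ∧ IsCyclic φ.ker ∧
      Nat.card φ.ker = Nat.gcd n (p ^ f - 1) := by
  classical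
  let _ : Algebra (ZMod p) F := ZMod.algebra F p
  let mk : MulAut Pn →* Cfsg.Out Pn := QuotientGroup.mk' (Cfsg.Inn Pn)
  have hmk : ∀ g : Pn, mk (MulAut.conj g) = 1 := fun g => (QuotientGroup.eq_one_iff _).2 ⟨g, rfl⟩
  let δ : Fˣ →* Cfsg.Out Pn := (mk.comp conjP).comp (diagFirst hn)
  let γhom : Multiplicative (ZMod 2) →* MulAut Pn :=
    { toFun := fun b => if b = 1 then 1 else graphP
      map_one' := if_pos rfl
      map_mul' := fun a b => by
        have h2 : ∀ z : Multiplicative (ZMod 2), z = 1 ∨ z = Multiplicative.ofAdd 1 := by decide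
        have h1 : (Multiplicative.ofAdd 1 : Multiplicative (ZMod 2)) ≠ 1 := by decide
        have h11 : (Multiplicative.ofAdd 1 : Multiplicative (ZMod 2)) * Multiplicative.ofAdd 1 = 1 := by decide
        rcases h2 a with rfl | rfl <;> rcases h2 b with rfl | rfl <;> simp [h1, h11, graphP_mul_self] }
  have hγhom : ∀ b, γhom b = 1 ∨ γhom b = graphP := fun b => by
    by_cases hb : b = 1
    · left; exact if_pos hb
    · right; exact if_neg hb
  let Ψ₀ : (F ≃+* F) × Multiplicative (ZMod 2) →* MulAut Pn :=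
    MonoidHom.noncommCoprod fieldP γhom (fun σ b => by
      rcases hγhom b with e | e <;> rw [e]
      · exact Commute.one_right _
      · exact fieldP_comm_graphP σ)
  let Φ : (F ≃+* F) × Multiplicative (ZMod 2) →* Cfsg.Out Pn := mk.comp Ψ₀
  have hconj : ∀ g : GL (Fin n) F, ∃ a : Fˣ, mk (conjP g) = δ a := by
    intro g
    refine ⟨Units.map Matrix.detMonoidHom g, ?_⟩
    set a : Fˣ := Units.map Matrix.detMonoidHom g
    let M : SLn := ⟨(((diagFirst hn a)⁻¹ * g : GL (Fin n) F) : Matrix (Fin n) (Fin n) F), by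
      rw [Units.val_mul, Matrix.det_mul, ← map_inv, det_diagFirst]
      exact a.inv_mul⟩
    have e : g = diagFirst hn a * SpecialLinearGroup.toGL M := by
      apply Units.ext
      show (g : Matrix (Fin n) (Fin n) F) = _ * (((diagFirst hn a)⁻¹ * g : GL (Fin n) F) : Matrix (Fin n) (Fin n) F)
      rw [← Units.val_mul, mul_inv_cancel_left]
    rw [e, map_mul, map_mul, conjP_toGL, hmk, mul_one]
    rfl
  have hdec : ∀ o : Cfsg.Out Pn, ∃ a x, o = δ a * Φ x := fun o => by
    obtain ⟨α, rfl⟩ := QuotientGroup.mk_surjective o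
    obtain ⟨g, σ, γ, hγ, rfl⟩ := exists_decomp hn α
    obtain ⟨a, ha⟩ := hconj g
    obtain ⟨b, hb⟩ : ∃ b, γhom b = γ := by
      rcases hγ with rfl | rfl
      · exact ⟨1, map_one _⟩
      · refine ⟨Multiplicative.ofAdd 1, ?_⟩
        show (if (Multiplicative.ofAdd 1 : Multiplicative (ZMod 2)) = 1 then (1 : MulAut Pn) else graphP) = graphP
        rw [if_neg (by decide)]
    refine ⟨a, (σ, b), ?_⟩
    change mk (conjP g * fieldP σ * γ) = _
    rw [map_mul, map_mul, ha, mul_assoc]
    congr 1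
    rw [← map_mul]
    exact congrArg mk (show fieldP σ * γ = Ψ₀ (σ, b) by rw [MonoidHom.noncommCoprod_apply, hb])
  have hnorm : δ.range.Normal := ⟨by
    rintro _ ⟨b, rfl⟩ o
    obtain ⟨α, rfl⟩ := QuotientGroup.mk_surjective o
    obtain ⟨g, σ, γ, hγ, rfl⟩ := exists_decomp hn α
    -- move the conjugation through
    have hmove : ∀ d : GL (Fin n) F, ∃ d' : GL (Fin n) F,
        fieldP σ * γ * conjP d * (fieldP σ * γ)⁻¹ = (conjP d' : MulAut Pn) := by
      intro d
      have hfield : ∀ d : GL (Fin n) F, fieldP σ * conjP d =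
          (conjP (Matrix.GeneralLinearGroup.map σ.toRingHom d) : MulAut Pn) * fieldP σ := by
        intro d
        rw [fieldP, conjP, MonoidHom.comp_apply, MonoidHom.comp_apply, MonoidHom.comp_apply, ← map_mul, ← map_mul]
        congr 1
        refine MulEquiv.ext fun N => Subtype.ext ?_
        change (_ * _ * _ : Matrix (Fin n) (Fin n) F).map σ = _ * (N : Matrix (Fin n) (Fin n) F).map σ * _
        rw [Matrix.map_mul, Matrix.map_mul, ← map_inv]
        rfl
      rcases hγ with rfl | rfl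
      · exact ⟨_, by rw [mul_one, hfield, mul_inv_cancel_right]⟩
      · let d'' : GL (Fin n) F :=
          ⟨((d⁻¹ : GL (Fin n) F) : Matrix (Fin n) (Fin n) F)ᵀ, (d : Matrix (Fin n) (Fin n) F)ᵀ,
            by rw [← Matrix.transpose_mul, d.mul_inv, Matrix.transpose_one],
            by rw [← Matrix.transpose_mul, d.inv_mul, Matrix.transpose_one]⟩
        have hswap : graphP * conjP d = conjP d'' * (graphP : MulAut Pn) := by
          rw [graphP, conjP, MonoidHom.comp_apply, MonoidHom.comp_apply, ← map_mul, ← map_mul]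
          congr 1
          refine MulEquiv.ext fun N => Subtype.ext ?_
          change (((conjSL d N)⁻¹ : SLn) : Matrix (Fin n) (Fin n) F)ᵀ =
            ((d⁻¹ : GL (Fin n) F) : Matrix (Fin n) (Fin n) F)ᵀ * ((N⁻¹ : SLn) : Matrix (Fin n) (Fin n) F)ᵀ *
              (d : Matrix (Fin n) (Fin n) F)ᵀ
          rw [← map_inv, coe_conjSL, Matrix.transpose_mul, Matrix.transpose_mul, mul_assoc]
        exact ⟨_, by rw [mul_assoc (fieldP σ) graphP, hswap, ← mul_assoc, hfield, mul_assoc _ (fieldP σ),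
          mul_inv_cancel_right]⟩
    obtain ⟨d', hd'⟩ := hmove (diagFirst hn b)
    obtain ⟨a, ha⟩ := hconj g
    obtain ⟨a', ha'⟩ := hconj d'
    refine ⟨a * a' * a⁻¹, ?_⟩
    rw [map_mul, map_mul, map_inv, ← ha, ← ha', ← hd']
    change _ = mk (conjP g * fieldP σ * γ) * δ b * (mk (conjP g * fieldP σ * γ))⁻¹
    simp only [map_mul, map_inv, δ, MonoidHom.comp_apply]
    group⟩
  let Ψ : (F ≃+* F) × Multiplicative (ZMod 2) →* Cfsg.Out Pn ⧸ δ.range := (QuotientGroup.mk' δ.range).comp Φ
  have hinner : ∀ a σ b, δ a * Φ (σ, b) = 1 → σ = 1 ∧ b = 1 ∧ ∃ c : Fˣ, c ^ n = a := fun a σ b h => by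
    obtain ⟨g, hg⟩ := (QuotientGroup.eq_one_iff (conjP (diagFirst hn a) * Ψ₀ (σ, b))).1 (by
      rw [← h]; exact map_mul mk _ _)
    rw [MonoidHom.noncommCoprod_apply, ← mul_assoc] at hg
    obtain ⟨h1, h2, c, hc, hcn⟩ := inner_imp hn (hγhom b) hg.symm
    refine ⟨h2, ?_, Units.mk0 c hc, Units.ext (by simpa [det_diagFirst] using hcn)⟩
    by_contra hb
    have hb' : γhom b = graphP := if_neg hb
    rw [hb'] at h1
    -- the graph automorphism is not trivial
    have h01 : (⟨0, by omega⟩ : Fin n) ≠ ⟨1, by omega⟩ := by simp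
    have h02 : (⟨0, by omega⟩ : Fin n) ≠ ⟨2, by omega⟩ := by simp
    have e1 := (isRootGroup_elemRoot (F := F) h01).map_graphP
    rw [h1, show (elemRoot (F := F) h01).map (1 : MulAut Pn).toMonoidHom = elemRoot (F := F) h01 from
      Subgroup.map_id _] at e1
    obtain ⟨⟨k, hk, e⟩, -⟩ := e1.unique hn (isRootGroup_elemRoot h01)
    have := congrFun e ⟨0, by omega⟩
    simp [Fin.ext_iff] at this
  have hΨ : Function.Bijective Ψ := by
    refine ⟨(injective_iff_map_eq_one _).2 fun x h => ?_, fun o => ?_⟩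
    · obtain ⟨σ, b⟩ := x
      obtain ⟨a, ha⟩ := (QuotientGroup.eq_one_iff _).1 h
      obtain ⟨h1, h2, -⟩ := hinner a⁻¹ σ b (by rw [map_inv, ha, inv_mul_cancel])
      rw [h1, h2]; rfl
    · obtain ⟨o, rfl⟩ := QuotientGroup.mk_surjective o
      obtain ⟨a, x, rfl⟩ := hdec o
      refine ⟨x, ?_⟩
      change QuotientGroup.mk' δ.range (Φ x) = QuotientGroup.mk' δ.range (δ a * Φ x)
      rw [map_mul, show QuotientGroup.mk' δ.range (δ a) = 1 from (QuotientGroup.eq_one_iff _).2 ⟨a, rfl⟩, one_mul]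
  have hfin : FiniteDimensional (ZMod p) F := Module.Finite.of_finite
  let eA : (F ≃+* F) ≃* (F ≃ₐ[ZMod p] F) :=
    { toFun := fun σ => AlgEquiv.ofRingEquiv (f := σ) (fun k => DFunLike.congr_fun
        (Subsingleton.elim (σ.toRingHom.comp (algebraMap (ZMod p) F)) (algebraMap (ZMod p) F)) k)
      invFun := fun σ => σ.toRingEquiv
      left_inv := fun σ => RingEquiv.ext fun _ => rfl
      right_inv := fun σ => AlgEquiv.ext fun _ => rfl
      map_mul' := fun σ τ => AlgEquiv.ext fun _ => rfl }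
  have hcard : Nat.card (F ≃ₐ[ZMod p] F) = f := by
    rw [IsGalois.card_aut_eq_finrank]
    have h := Module.natCard_eq_pow_finrank (K := ZMod p) (V := F)
    rw [Nat.card_eq_fintype_card, hF, Nat.card_zmod] at h
    exact (Nat.pow_right_injective (Fact.out : p.Prime).two_le h).symm
  have hcyc : IsCyclic (F ≃ₐ[ZMod p] F) := inferInstance
  let eF : (F ≃+* F) ≃* Multiplicative (ZMod f) :=
    eA.trans ((zmodCyclicMulEquiv hcyc).symm.trans
      (AddEquiv.toMultiplicative (ZMod.ringEquivCongr hcard).toAddEquiv))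
  let e₁ := MulEquiv.ofBijective Ψ hΨ
  let e₂ : Cfsg.Out Pn ⧸ δ.range ≃* Multiplicative (ZMod f × ZMod 2) :=
    e₁.symm.trans ((eF.prodCongr (MulEquiv.refl _)).trans (MulEquiv.prodMultiplicative _ _).symm)
  refine ⟨e₂.toMonoidHom.comp (QuotientGroup.mk' δ.range),
    e₂.surjective.comp (QuotientGroup.mk'_surjective _), ?_⟩
  have hker : (e₂.toMonoidHom.comp (QuotientGroup.mk' δ.range)).ker = δ.range := by
    ext o
    rw [MonoidHom.mem_ker, MonoidHom.comp_apply]
    exact e₂.map_eq_one_iff.trans (QuotientGroup.eq_one_iff o)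
  rw [hker]
  refine ⟨isCyclic_of_surjective δ.rangeRestrict δ.rangeRestrict_surjective, ?_⟩
  have hδker : δ.ker = (powMonoidHom n : Fˣ →* Fˣ).range := by
    ext a
    constructor
    · intro h
      obtain ⟨-, -, c, hc⟩ := hinner a 1 1 (by
        rw [show ((1 : F ≃+* F), (1 : Multiplicative (ZMod 2))) = 1 from rfl, map_one, mul_one]; exact h)
      exact ⟨c, hc⟩
    · rintro ⟨c, rfl⟩
      -- scalars are inner
      let C : GL (Fin n) F := Units.map (Matrix.scalar (Fin n)).toMonoidHom c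
      have hC : conjP C = (1 : MulAut Pn) := by
        refine MulEquiv.ext fun x => QuotientGroup.induction_on x fun N => ?_
        refine congrArg π (Subtype.ext ?_ : conjSL C N = N)
        rw [coe_conjSL, show (C : Matrix (Fin n) (Fin n) F) * (N : Matrix (Fin n) (Fin n) F) =
          (N : Matrix (Fin n) (Fin n) F) * (C : Matrix (Fin n) (Fin n) F) from
          Matrix.scalar_commute (c : F) (fun _ => Commute.all _ _) _, mul_assoc, C.mul_inv, mul_one]
      let M : SLn := ⟨((diagFirst hn (c ^ n) * C⁻¹ : GL (Fin n) F) : Matrix (Fin n) (Fin n) F), by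
        rw [Units.val_mul, Matrix.det_mul, det_diagFirst, Units.val_pow_eq_pow_val, ← map_inv]
        show (c : F) ^ n * (Matrix.scalar (Fin n) ((c⁻¹ : Fˣ) : F)).det = 1
        rw [Matrix.scalar_apply, Matrix.det_diagonal, Finset.prod_const, Finset.card_univ, Fintype.card_fin,
          ← mul_pow, c.mul_inv, one_pow]⟩
      rw [MonoidHom.mem_ker]
      show mk (conjP (diagFirst hn (c ^ n))) = 1
      have e : diagFirst hn (c ^ n) = SpecialLinearGroup.toGL M * C := by
        apply Units.ext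
        show _ = ((diagFirst hn (c ^ n) * C⁻¹ : GL (Fin n) F) : Matrix (Fin n) (Fin n) F) * (C : Matrix (Fin n) (Fin n) F)
        rw [← Units.val_mul, inv_mul_cancel_right]
      rw [e, map_mul, hC, mul_one, conjP_toGL, hmk]
  rw [← Subgroup.index_ker, hδker]
  have h1 := (powMonoidHom n : Fˣ →* Fˣ).range.card_mul_index
  have h2 := (powMonoidHom n : Fˣ →* Fˣ).ker.card_mul_index
  rw [Subgroup.index_ker] at h2
  have h3 : Nat.card (powMonoidHom n : Fˣ →* Fˣ).ker = Nat.gcd n (p ^ f - 1) := by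
    rw [IsCyclic.card_powMonoidHom_ker, Nat.card_units, Nat.card_eq_fintype_card, hF, Nat.gcd_comm]
  rw [← h2, mul_comm (Nat.card (powMonoidHom n : Fˣ →* Fˣ).ker)] at h1
  exact (Nat.eq_of_mul_eq_mul_left Nat.card_pos h1).trans h3

end Cfsg.Lib.Known.AutPSLn
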