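import Cfsg.Agent.Known.AutPSLn.Decomp
import Cfsg.Agent.Known.AutPSL2

/-!
The named kinds of automorphisms of `PSL n q`, for all `n ≥ 2`.
-/

namespace Cfsg.Lib.Known.AutPSLn

open Matrix

variable {F : Type*} [Field F] {n : ℕ}

local notation "SLn" => Matrix.SpecialLinearGroup (Fin n) F
local notation "Pn" => Matrix.ProjectiveSpecialLinearGroup (Fin n) F

theorem isInnerDiagonal_conjP (g : GL (Fin n) F) : Cfsg.IsInnerDiagonalAutPSL (conjP g : MulAut Pn) :=
  ⟨g, fun s s' h => congrArg π (Subtype.ext (by rw [coe_conjSL, h]) : conjSL g s = s')⟩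

theorem isStdField_fieldP (σ : F ≃+* F) : Cfsg.IsStdFieldAutPSL σ (fieldP σ : MulAut Pn) :=
  fun s s' h => congrArg π (Subtype.ext (by rw [coe_fieldSL, h]) : fieldSL σ s = s')

theorem isInverseTranspose_graphP : Cfsg.IsInverseTransposeAutPSL (graphP : MulAut Pn) :=
  fun s s' h => congrArg π (Subtype.ext (by rw [coe_graphSL, h]) : graphSL s = s')

variable [Fintype F]

/-- Inner-diagonal times field times graph, for every `n ≥ 2`. -/
theorem exists_decomp_all (hn : 2 ≤ n) (β : MulAut Pn) :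
    ∃ (g : GL (Fin n) F) (σ : F ≃+* F) (γ : MulAut Pn), (γ = 1 ∨ γ = graphP) ∧ β = conjP g * fieldP σ * γ := by
  rcases Nat.lt_or_ge 2 n with h | h
  · exact exists_decomp h β
  obtain rfl : n = 2 := by omega
  obtain ⟨p, hp⟩ := CharP.exists F
  obtain ⟨m, hprime, hm⟩ := FiniteField.card F p
  have := Fact.mk hprime
  let _ : Algebra (ZMod p) F := ZMod.algebra F p
  obtain ⟨g, a, σ, hβ⟩ := AutPSL2.exists_decomp p (f := m) m.pos hm β
  obtain ⟨M, rfl⟩ := QuotientGroup.mk_surjective g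
  refine ⟨SpecialLinearGroup.toGL M * AutPSL2.diagGL a, σ.toRingEquiv, 1, Or.inl rfl, ?_⟩
  rw [mul_one, map_mul, conjP_toGL, hβ]
  rfl

end Cfsg.Lib.Known.AutPSLn
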