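import Cfsg.Prelude.Def_LieTypeDatum
import Cfsg.Agent.Classical.SLExtra
import Cfsg.Agent.Known.ThreeUnipotents

/-!
Automorphisms of `PSL n q`: the standard ones, and root groups.
-/

namespace Cfsg.Lib.Known.AutPSLn

open Matrix Cfsg.Lib.Known.ThreeUnipotents

variable {F : Type*} [Field F] {n : ℕ}

local notation "SLn" => Matrix.SpecialLinearGroup (Fin n) F
local notation "Pn" => Matrix.ProjectiveSpecialLinearGroup (Fin n) F

/-- The projection. -/
abbrev π : SLn →* Pn := QuotientGroup.mk' (Subgroup.center SLn)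

/-- Automorphisms of `SL` act on `PSL`. -/
noncomputable def liftPSL : MulAut SLn →* MulAut Pn where
  toFun a := QuotientGroup.congr _ _ a (Subgroup.characteristic_iff_map_eq.1 inferInstance a)
  map_one' := MulEquiv.ext fun x => QuotientGroup.induction_on x fun _ => rfl
  map_mul' a b := MulEquiv.ext fun x => QuotientGroup.induction_on x fun _ => rfl

theorem liftPSL_apply (a : MulAut SLn) (M : SLn) : liftPSL a (π M) = π (a M) := rfl

theorem cmul (M N : SLn) : ((M * N : SLn) : Matrix (Fin n) (Fin n) F) = (M : Matrix (Fin n) (Fin n) F) * N := rfl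

/-- Conjugation by `GL` on `SL`. -/
noncomputable def conjSL : GL (Fin n) F →* MulAut SLn where
  toFun g :=
    { toFun := fun M => ⟨(g : Matrix (Fin n) (Fin n) F) * M * ((g⁻¹ : GL (Fin n) F) : Matrix (Fin n) (Fin n) F), by
        rw [det_mul, det_mul, M.2, mul_one, ← det_mul, ← Units.val_mul, mul_inv_cancel, Units.val_one, det_one]⟩
      invFun := fun M => ⟨((g⁻¹ : GL (Fin n) F) : Matrix (Fin n) (Fin n) F) * M * (g : Matrix (Fin n) (Fin n) F), by
        rw [det_mul, det_mul, M.2, mul_one, ← det_mul, ← Units.val_mul, inv_mul_cancel, Units.val_one, det_one]⟩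
      left_inv := fun M => Subtype.ext (by simp [mul_assoc])
      right_inv := fun M => Subtype.ext (by simp [mul_assoc])
      map_mul' := fun M N => Subtype.ext (by
        change _ * ((M * N : SLn) : Matrix (Fin n) (Fin n) F) * _ = (_ * _ * _) * (_ * _ * _)
        simp [cmul, mul_assoc]) }
  map_one' := MulEquiv.ext fun M => Subtype.ext (by
    change ((1 : GL (Fin n) F) : Matrix (Fin n) (Fin n) F) * (M : Matrix (Fin n) (Fin n) F) *
      (((1 : GL (Fin n) F)⁻¹ : GL (Fin n) F) : Matrix (Fin n) (Fin n) F) = (M : Matrix (Fin n) (Fin n) F)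
    simp)
  map_mul' g h := MulEquiv.ext fun M => Subtype.ext (by
    change ((g * h : GL (Fin n) F) : Matrix (Fin n) (Fin n) F) * (M : Matrix (Fin n) (Fin n) F) *
      (((g * h)⁻¹ : GL (Fin n) F) : Matrix (Fin n) (Fin n) F) =
      (g : Matrix (Fin n) (Fin n) F) * ((h : Matrix (Fin n) (Fin n) F) * M * ((h⁻¹ : GL (Fin n) F) : Matrix (Fin n) (Fin n) F)) *
        ((g⁻¹ : GL (Fin n) F) : Matrix (Fin n) (Fin n) F)
    simp [_root_.mul_inv_rev, mul_assoc])

theorem coe_conjSL (g : GL (Fin n) F) (M : SLn) : ((conjSL g M : SLn) : Matrix (Fin n) (Fin n) F) =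
    (g : Matrix (Fin n) (Fin n) F) * M * ((g⁻¹ : GL (Fin n) F) : Matrix (Fin n) (Fin n) F) := rfl

/-- Conjugation by `GL` on `PSL`. -/
noncomputable def conjP : GL (Fin n) F →* MulAut Pn := liftPSL.comp conjSL

theorem conjP_apply (g : GL (Fin n) F) (M : SLn) : conjP g (π M) = π (conjSL g M) := rfl

theorem conjP_toGL (M : SLn) : conjP (Matrix.SpecialLinearGroup.toGL M) = MulAut.conj (π M) := by
  refine MulEquiv.ext fun x => QuotientGroup.induction_on x fun N => ?_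
  change π (conjSL (Matrix.SpecialLinearGroup.toGL M) N) = π M * π N * (π M)⁻¹
  rw [← map_inv, ← map_mul, ← map_mul]
  rfl

/-- Entrywise field automorphisms of `SL`. -/
noncomputable def fieldSL : (F ≃+* F) →* MulAut SLn where
  toFun σ :=
    { toFun := Matrix.SpecialLinearGroup.map σ.toRingHom
      invFun := Matrix.SpecialLinearGroup.map σ.symm.toRingHom
      left_inv := fun M => by ext i j; exact σ.symm_apply_apply _
      right_inv := fun M => by ext i j; exact σ.apply_symm_apply _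
      map_mul' := map_mul _ }
  map_one' := MulEquiv.ext fun M => by ext i j; rfl
  map_mul' _ _ := MulEquiv.ext fun M => by ext i j; rfl

theorem coe_fieldSL (σ : F ≃+* F) (M : SLn) :
    ((fieldSL σ M : SLn) : Matrix (Fin n) (Fin n) F) = (M : Matrix (Fin n) (Fin n) F).map σ := rfl

/-- Entrywise field automorphisms of `PSL`. -/
noncomputable def fieldP : (F ≃+* F) →* MulAut Pn := liftPSL.comp fieldSL

theorem fieldP_apply (σ : F ≃+* F) (M : SLn) : fieldP σ (π M) = π (fieldSL σ M) := rfl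

theorem transpose_inv_eq (X : SLn) :
    (SpecialLinearGroup.transpose X)⁻¹ = SpecialLinearGroup.transpose X⁻¹ := by
  refine inv_eq_of_mul_eq_one_right (Subtype.ext ?_)
  change (X : Matrix (Fin n) (Fin n) F)ᵀ * ((X⁻¹ : SLn) : Matrix (Fin n) (Fin n) F)ᵀ = 1
  rw [← Matrix.transpose_mul]
  exact (congrArg Matrix.transpose (congrArg Subtype.val (inv_mul_cancel X))).trans Matrix.transpose_one

theorem transpose_transpose_SL (X : SLn) :
    SpecialLinearGroup.transpose (SpecialLinearGroup.transpose X) = X :=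
  Subtype.ext (Matrix.transpose_transpose _)

/-- The inverse transpose on `SL`. -/
noncomputable def graphSL : MulAut SLn where
  toFun M := SpecialLinearGroup.transpose M⁻¹
  invFun M := SpecialLinearGroup.transpose M⁻¹
  left_inv M := by simp [transpose_inv_eq, transpose_transpose_SL]
  right_inv M := by simp [transpose_inv_eq, transpose_transpose_SL]
  map_mul' M N := by
    rw [_root_.mul_inv_rev]
    apply Subtype.ext
    exact Matrix.transpose_mul _ _

theorem coe_graphSL (M : SLn) :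
    ((graphSL M : SLn) : Matrix (Fin n) (Fin n) F) = ((M⁻¹ : SLn) : Matrix (Fin n) (Fin n) F)ᵀ := rfl

/-- The inverse transpose on `PSL`. -/
noncomputable def graphP : MulAut Pn := liftPSL graphSL

theorem graphP_apply (M : SLn) : graphP (π M) = π (graphSL M) := rfl

theorem graphP_mul_self : (graphP : MulAut Pn) * graphP = 1 := by
  rw [graphP, ← map_mul, ← map_one liftPSL]
  congr 1
  refine MulEquiv.ext fun M => ?_
  exact graphSL.left_inv M

/-- The root homomorphism. -/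
noncomputable def rootHom (v ψ : Fin n → F) (h : ψ ⬝ᵥ v = 0) : Multiplicative F →* Pn :=
  π.comp
    { toFun := fun x => rankOne v ψ h x.toAdd
      map_one' := Subtype.ext (by simp [coe_rankOne])
      map_mul' := fun x y => Subtype.ext (by
        change _ = (1 + x.toAdd • vecMulVec v ψ) * (1 + y.toAdd • vecMulVec v ψ)
        rw [mul_add, mul_one, add_mul, one_mul, smul_mul_assoc, mul_smul_comm, vecMulVec_mul_vecMulVec, h]
        simp [coe_rankOne, add_smul, add_assoc]) }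

theorem rootHom_apply (v ψ : Fin n → F) (h : ψ ⬝ᵥ v = 0) (x : F) :
    rootHom v ψ h (Multiplicative.ofAdd x) = π (rankOne v ψ h x) := rfl

/-- A root group. -/
structure IsRootGroup (Z : Subgroup Pn) (v ψ : Fin n → F) : Prop where
  hv : v ≠ 0
  hψ : ψ ≠ 0
  perp : ψ ⬝ᵥ v = 0
  eq : Z = (rootHom v ψ perp).range

theorem IsRootGroup.mem {Z : Subgroup Pn} {v ψ : Fin n → F} (h : IsRootGroup Z v ψ) (x : F) :
    π (rankOne v ψ h.perp x) ∈ Z := by
  obtain ⟨_, _, _, rfl⟩ := h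
  exact ⟨Multiplicative.ofAdd x, rfl⟩

/-- A vector killed by two functionals. -/
theorem exists_ne_zero_of_two (hn : 3 ≤ n) (ψ χ : Fin n → F) :
    ∃ z : Fin n → F, z ≠ 0 ∧ ψ ⬝ᵥ z = 0 ∧ χ ⬝ᵥ z = 0 := by
  let L : (Fin n → F) →ₗ[F] (Fin 2 → F) := (Matrix.of ![ψ, χ]).mulVecLin
  have h : LinearMap.ker L ≠ ⊥ := fun h => by
    have := LinearMap.finrank_le_finrank_of_injective (LinearMap.ker_eq_bot.1 h)
    simp at this
    omega
  obtain ⟨z, hz, hz0⟩ := Submodule.exists_mem_ne_zero_of_ne_bot h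
  rw [LinearMap.mem_ker] at hz
  exact ⟨z, hz0, congrFun hz 0, congrFun hz 1⟩

theorem π_eq {M N : SLn} (h : π M = π N) :
    ∃ c : F, (N : Matrix (Fin n) (Fin n) F) = c • (M : Matrix (Fin n) (Fin n) F) := by
  obtain ⟨z, hz, rfl⟩ := (QuotientGroup.mk'_eq_mk' _).1 h
  obtain ⟨c, -, hcz⟩ := Matrix.SpecialLinearGroup.mem_center_iff.1 hz
  refine ⟨c, ?_⟩
  rw [cmul, ← hcz, ← smul_one_eq_diagonal c |>.trans (scalar_apply c).symm, mul_smul_comm, mul_one]

/-- Two elements fixing a common non-zero vector and equal in `PSL` are equal. -/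
theorem π_eq_of_fix {M N : SLn} (h : π M = π N) {z : Fin n → F} (hz : z ≠ 0)
    (hM : (M : Matrix (Fin n) (Fin n) F) *ᵥ z = z) (hN : (N : Matrix (Fin n) (Fin n) F) *ᵥ z = z) : M = N := by
  obtain ⟨c, hc⟩ := π_eq h
  have : c • z = z := by
    have := congrArg (· *ᵥ z) hc
    simp only [smul_mulVec, hM, hN] at this
    exact this.symm
  have hc1 : c = 1 := by
    by_contra hne
    exact hz ((smul_eq_zero.1 (show (c - 1) • z = 0 by rw [sub_smul, one_smul, this, sub_self])).resolve_left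
      (sub_ne_zero.2 hne))
  exact Subtype.ext (by rw [hc, hc1, one_smul])

theorem rankOne_fix (v ψ : Fin n → F) (h : ψ ⬝ᵥ v = 0) (x : F) {z : Fin n → F} (hz : ψ ⬝ᵥ z = 0) :
    (rankOne v ψ h x : Matrix (Fin n) (Fin n) F) *ᵥ z = z := by
  rw [coe_rankOne, add_mulVec, one_mulVec, smul_mulVec, vecMulVec_mulVec, hz]
  simp

theorem π_rankOne_inj (hn : 3 ≤ n) {v ψ w χ : Fin n → F} {h : ψ ⬝ᵥ v = 0} {h' : χ ⬝ᵥ w = 0} {x y : F}
    (he : π (rankOne v ψ h x) = π (rankOne w χ h' y)) : x • vecMulVec v ψ = y • vecMulVec w χ := by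
  obtain ⟨z, hz, h1, h2⟩ := exists_ne_zero_of_two hn ψ χ
  have := congrArg Subtype.val (π_eq_of_fix he hz (rankOne_fix _ _ _ _ h1) (rankOne_fix _ _ _ _ h2))
  exact add_left_cancel this

theorem vecMulVec_ne_zero {v ψ : Fin n → F} (hv : v ≠ 0) (hψ : ψ ≠ 0) : vecMulVec v ψ ≠ 0 := by
  obtain ⟨i, hi⟩ := Function.ne_iff.1 hv
  obtain ⟨j, hj⟩ := Function.ne_iff.1 hψ
  intro h
  have := congrFun (congrFun h i) j
  rw [vecMulVec_apply, Matrix.zero_apply, mul_eq_zero] at this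
  exact this.elim hi hj

theorem rootHom_injective (hn : 3 ≤ n) {v ψ : Fin n → F} (hv : v ≠ 0) (hψ : ψ ≠ 0) (h : ψ ⬝ᵥ v = 0) :
    Function.Injective (rootHom v ψ h) := by
  intro x y he
  have := π_rankOne_inj hn (h := h) (h' := h) (x := x.toAdd) (y := y.toAdd) he
  rw [← sub_eq_zero, ← sub_smul, smul_eq_zero, sub_eq_zero] at this
  exact Multiplicative.toAdd.injective (this.resolve_right (vecMulVec_ne_zero hv hψ))

/-- Dependence of vectors. -/
theorem exists_smul_of_vecMulVec {v ψ w χ : Fin n → F} (hv : v ≠ 0) (hψ : ψ ≠ 0) (hw : w ≠ 0) {x y : F}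
    (hy : y ≠ 0) (he : x • vecMulVec v ψ = y • vecMulVec w χ) (hχ : χ ≠ 0) :
    (∃ c : F, c ≠ 0 ∧ w = c • v) ∧ ∃ c : F, c ≠ 0 ∧ χ = c • ψ := by
  obtain ⟨i, hi⟩ := Function.ne_iff.1 hw
  obtain ⟨j, hj⟩ := Function.ne_iff.1 hχ
  have hi' : w i ≠ 0 := hi
  have hj' : χ j ≠ 0 := hj
  have e : ∀ a b, x * (v a * ψ b) = y * (w a * χ b) := fun a b => congrFun (congrFun he a) b
  have hne : x * (v i * ψ j) ≠ 0 := by rw [e]; exact mul_ne_zero hy (mul_ne_zero hi' hj')
  obtain ⟨hx, hij⟩ := mul_ne_zero_iff.1 hne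
  obtain ⟨hvi, hψj⟩ := mul_ne_zero_iff.1 hij
  refine ⟨⟨x * ψ j / (y * χ j), div_ne_zero (mul_ne_zero hx hψj) (mul_ne_zero hy hj'), funext fun a => ?_⟩,
    ⟨x * v i / (y * w i), div_ne_zero (mul_ne_zero hx hvi) (mul_ne_zero hy hi'), funext fun b => ?_⟩⟩
  · rw [Pi.smul_apply, smul_eq_mul, div_mul_eq_mul_div, eq_div_iff (mul_ne_zero hy hj')]
    linear_combination -e a j
  · rw [Pi.smul_apply, smul_eq_mul, div_mul_eq_mul_div, eq_div_iff (mul_ne_zero hy hi')]
    linear_combination -e i b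

theorem IsRootGroup.unique (hn : 3 ≤ n) {Z : Subgroup Pn} {v ψ w χ : Fin n → F} (h : IsRootGroup Z v ψ)
    (h' : IsRootGroup Z w χ) : (∃ c : F, c ≠ 0 ∧ w = c • v) ∧ ∃ c : F, c ≠ 0 ∧ χ = c • ψ := by
  have hm : _ ∈ (rootHom v ψ h.perp).range := (SetLike.ext_iff.1 h.eq _).1 (h'.mem 1)
  obtain ⟨x, hx⟩ := hm
  exact exists_smul_of_vecMulVec h.hv h.hψ h'.hv one_ne_zero (π_rankOne_inj hn (h := h.perp) (x := x.toAdd) hx) h'.hψ

theorem isRootGroup_range {v ψ : Fin n → F} (hv : v ≠ 0) (hψ : ψ ≠ 0) (h : ψ ⬝ᵥ v = 0) :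
    IsRootGroup (rootHom v ψ h).range v ψ := ⟨hv, hψ, h, rfl⟩

theorem IsRootGroup.smul {Z : Subgroup Pn} {v ψ : Fin n → F} (h : IsRootGroup Z v ψ) {a b : F} (ha : a ≠ 0)
    (hb : b ≠ 0) : IsRootGroup Z (a • v) (b • ψ) := by
  obtain ⟨hv, hψ, hp, rfl⟩ := h
  refine ⟨smul_ne_zero ha hv, smul_ne_zero hb hψ, by rw [smul_dotProduct, dotProduct_smul, hp, smul_zero, smul_zero], ?_⟩
  ext g
  constructor
  · rintro ⟨x, rfl⟩
    refine ⟨Multiplicative.ofAdd (x.toAdd / (b * a)), congrArg π (Subtype.ext ?_)⟩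
    change 1 + (x.toAdd / (b * a)) • vecMulVec (a • v) (b • ψ) = 1 + x.toAdd • vecMulVec v ψ
    rw [vecMulVec_smul, smul_vecMulVec, smul_smul, smul_smul, mul_assoc, div_mul_cancel₀ _ (mul_ne_zero hb ha)]
  · rintro ⟨x, rfl⟩
    refine ⟨Multiplicative.ofAdd (x.toAdd * b * a), congrArg π (Subtype.ext ?_)⟩
    change 1 + (x.toAdd * b * a) • vecMulVec v ψ = 1 + x.toAdd • vecMulVec (a • v) (b • ψ)
    rw [vecMulVec_smul, smul_vecMulVec, smul_smul, smul_smul]

/-- Conjugation carries a root group to a root group. -/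
theorem IsRootGroup.map_conjP {Z : Subgroup Pn} {v ψ : Fin n → F} (h : IsRootGroup Z v ψ) (g : GL (Fin n) F) :
    IsRootGroup (Z.map (conjP g).toMonoidHom) ((g : Matrix (Fin n) (Fin n) F) *ᵥ v)
      (ψ ᵥ* ((g⁻¹ : GL (Fin n) F) : Matrix (Fin n) (Fin n) F)) := by
  obtain ⟨hv, hψ, hp, rfl⟩ := h
  have hgi : ((g⁻¹ : GL (Fin n) F) : Matrix (Fin n) (Fin n) F) * (g : Matrix (Fin n) (Fin n) F) = 1 :=
    g.inv_mul
  have hgi' : (g : Matrix (Fin n) (Fin n) F) * ((g⁻¹ : GL (Fin n) F) : Matrix (Fin n) (Fin n) F) = 1 :=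
    g.mul_inv
  refine ⟨fun h0 => hv ?_, fun h0 => hψ ?_, ?_, ?_⟩
  · have := congrArg (((g⁻¹ : GL (Fin n) F) : Matrix (Fin n) (Fin n) F) *ᵥ ·) h0
    rwa [mulVec_mulVec, hgi, one_mulVec, mulVec_zero] at this
  · have := congrArg (· ᵥ* (g : Matrix (Fin n) (Fin n) F)) h0
    rwa [vecMul_vecMul, hgi, vecMul_one, zero_vecMul] at this
  · rw [dotProduct_mulVec, vecMul_vecMul, hgi, vecMul_one, hp]
  · rw [MonoidHom.map_range]
    congr 1
    refine MonoidHom.ext fun x => congrArg π (Subtype.ext ?_)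
    change (g : Matrix (Fin n) (Fin n) F) * (1 + x.toAdd • vecMulVec v ψ) *
      ((g⁻¹ : GL (Fin n) F) : Matrix (Fin n) (Fin n) F) = 1 + x.toAdd • vecMulVec _ _
    rw [mul_add, mul_one, add_mul, hgi', mul_smul_comm, mul_vecMulVec, smul_mul_assoc, vecMulVec_mul]

/-- The graph automorphism swaps the point and the hyperplane. -/
theorem IsRootGroup.map_graphP {Z : Subgroup Pn} {v ψ : Fin n → F} (h : IsRootGroup Z v ψ) :
    IsRootGroup (Z.map graphP.toMonoidHom) ψ v := by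
  obtain ⟨hv, hψ, hp, rfl⟩ := h
  have hp' : v ⬝ᵥ ψ = 0 := by rw [dotProduct_comm, hp]
  have key : ∀ x : F, graphSL (rankOne v ψ hp x) = rankOne ψ v hp' (-x) := by
    intro x
    apply Subtype.ext
    rw [coe_graphSL, show (rankOne v ψ hp x)⁻¹ = rankOne v ψ hp (-x) from ?_]
    · rw [coe_rankOne, coe_rankOne, transpose_add, transpose_one, transpose_smul, transpose_vecMulVec]
    · rw [inv_eq_iff_mul_eq_one]
      refine Subtype.ext ?_
      change (1 + x • vecMulVec v ψ) * (1 + (-x) • vecMulVec v ψ) = 1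
      rw [mul_add, mul_one, add_mul, one_mul, smul_mul_assoc, mul_smul_comm, vecMulVec_mul_vecMulVec, hp]
      simp
  refine ⟨hψ, hv, hp', ?_⟩
  rw [MonoidHom.map_range]
  ext g
  constructor
  · rintro ⟨x, rfl⟩
    exact ⟨Multiplicative.ofAdd (-x.toAdd), (congrArg π (key x.toAdd)).symm⟩
  · rintro ⟨x, rfl⟩
    refine ⟨Multiplicative.ofAdd (-x.toAdd), ?_⟩
    have := congrArg π (key (-x.toAdd))
    rw [neg_neg] at this
    exact this

/-- Every root group is conjugate to the standard one. -/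
theorem exists_conj_standard (hn : 3 ≤ n) {v ψ : Fin n → F} (hv : v ≠ 0) (hψ : ψ ≠ 0) (h : ψ ⬝ᵥ v = 0) :
    ∃ (g : SLn) (c : F), c ≠ 0 ∧ (g : Matrix (Fin n) (Fin n) F) *ᵥ Pi.single ⟨0, by omega⟩ 1 = v ∧
      ψ ᵥ* (g : Matrix (Fin n) (Fin n) F) = c • Pi.single ⟨n - 1, by omega⟩ 1 := by
  classical
  have : Nontrivial (Fin n) := ⟨⟨⟨0, by omega⟩, ⟨1, by omega⟩, by simp⟩⟩
  set i0 : Fin n := ⟨0, by omega⟩
  set il : Fin n := ⟨n - 1, by omega⟩
  have h0l : i0 ≠ il := by simp [i0, il, Fin.ext_iff]; omega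
  obtain ⟨G1, hG1⟩ := Cfsg.Lib.Classical.exists_SL_mulVec_eq
    (Pi.single_ne_zero_iff.2 one_ne_zero : (Pi.single i0 (1 : F) : Fin n → F) ≠ 0) hv
  set ψ1 := ψ ᵥ* (G1 : Matrix (Fin n) (Fin n) F) with hψ1
  have hψ10 : ψ1 i0 = 0 := by
    have : ψ1 ⬝ᵥ Pi.single i0 1 = 0 := by rw [hψ1, ← dotProduct_mulVec, hG1, h]
    simpa using this
  have hinv : (G1 : Matrix (Fin n) (Fin n) F) * ((G1⁻¹ : SLn) : Matrix (Fin n) (Fin n) F) = 1 :=
    congrArg Subtype.val (mul_inv_cancel G1)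
  have hψ1ne : ψ1 ≠ 0 := fun h0 => hψ (by
    have := congrArg (· ᵥ* ((G1⁻¹ : SLn) : Matrix (Fin n) (Fin n) F)) h0
    rwa [hψ1, vecMul_vecMul, hinv, vecMul_one, zero_vecMul] at this)
  -- make the last coordinate non-zero
  obtain ⟨G2, hG2, hG2l⟩ : ∃ G2 : SLn, (G2 : Matrix (Fin n) (Fin n) F) *ᵥ Pi.single i0 1 = Pi.single i0 1 ∧
      (ψ1 ᵥ* (G2 : Matrix (Fin n) (Fin n) F)) il ≠ 0 := by
    by_cases hl : ψ1 il ≠ 0
    · exact ⟨1, one_mulVec _, by simpa using hl⟩
    push Not at hl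
    obtain ⟨k, hk⟩ := Function.ne_iff.1 hψ1ne
    have hkl : k ≠ il := fun e => hk (e ▸ hl)
    refine ⟨rankOne (Pi.single k 1) (Pi.single il 1) (by simp [hkl]) 1, rankOne_fix _ _ _ _ (by simp [h0l]), ?_⟩
    rw [coe_rankOne, one_smul, vecMul_add, vecMul_one, vecMul_vecMulVec]
    simpa [hl] using hk
  set ψ2 := ψ1 ᵥ* (G2 : Matrix (Fin n) (Fin n) F) with hψ2
  have hψ20 : ψ2 i0 = 0 := by
    have : ψ2 ⬝ᵥ Pi.single i0 1 = 0 := by rw [hψ2, ← dotProduct_mulVec, hG2]; simp [hψ10]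
    simpa using this
  set η : Fin n → F := fun j => if j = il then 0 else -ψ2 j / ψ2 il
  have hη : η ⬝ᵥ Pi.single il 1 = 0 := by simp [η]
  refine ⟨G1 * G2 * rankOne (Pi.single il 1) η hη 1, ψ2 il, hG2l, ?_, ?_⟩
  · rw [cmul, cmul, ← mulVec_mulVec, ← mulVec_mulVec, rankOne_fix _ _ _ _ (by simp [η, h0l, hψ20]), hG2, hG1]
  · rw [cmul, cmul, ← vecMul_vecMul, ← vecMul_vecMul, ← hψ1, ← hψ2, coe_rankOne, one_smul, vecMul_add,
      vecMul_one, vecMul_vecMulVec]
    ext j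
    by_cases hj : j = il
    · subst hj; simp [η]
    · simp [η, hj]
      field_simp
      ring

/-- Extensionality on elementary root elements. -/
theorem aut_ext {α β : MulAut Pn}
    (h : ∀ (i j : Fin n) (hij : i ≠ j) (x : F),
      α (π (SpecialLinearGroup.transvection hij x)) = β (π (SpecialLinearGroup.transvection hij x))) : α = β := by
  let H : Subgroup SLn := (MonoidHom.eqLocus α.toMonoidHom β.toMonoidHom).comap π
  have hH : H = ⊤ := Cfsg.Lib.Classical.eq_top_of_transvection_mem H fun i j hij x => h i j hij x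
  refine MulEquiv.ext fun p => QuotientGroup.induction_on p fun M => ?_
  exact (hH ▸ Subgroup.mem_top M : M ∈ H)

end Cfsg.Lib.Known.AutPSLn
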