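import Cfsg.Agent.Known.AutPSLn.Stars

/-!
`Aut (PSL n q) = PΓL · ⟨inverse transpose⟩` for `n ≥ 3`.
-/

namespace Cfsg.Lib.Known.AutPSLn

open Matrix Cfsg.Lib.Known.ThreeUnipotents
open scoped commutatorElement

variable {F : Type*} [Field F] [Fintype F] {n : ℕ}

local notation "SLn" => Matrix.SpecialLinearGroup (Fin n) F
local notation "Pn" => Matrix.ProjectiveSpecialLinearGroup (Fin n) F

/-- The elementary root group. -/
noncomputable def elemRoot {i j : Fin n} (h : i ≠ j) : Subgroup Pn :=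
  (rootHom (Pi.single i (1 : F)) (Pi.single j 1) (by simp [h])).range

omit [Fintype F] in
theorem isRootGroup_elemRoot {i j : Fin n} (h : i ≠ j) :
    IsRootGroup (elemRoot (F := F) h) (Pi.single i 1) (Pi.single j 1) :=
  isRootGroup_range (Pi.single_ne_zero_iff.2 one_ne_zero) (Pi.single_ne_zero_iff.2 one_ne_zero) _

omit [Fintype F] in
theorem exists_ne_fin (hn : 3 ≤ n) (i : Fin n) : ∃ k : Fin n, i ≠ k := by
  have : Nontrivial (Fin n) := ⟨⟨⟨0, by omega⟩, ⟨1, by omega⟩, by simp⟩⟩
  obtain ⟨k, hk⟩ := exists_ne i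
  exact ⟨k, hk.symm⟩

/-- A type-preserving automorphism carries the standard frame to a frame. -/
theorem exists_frame (hn : 3 ≤ n) (β : MulAut Pn) (hβ : Preserves β) :
    ∃ g : GL (Fin n) F, ∀ (i j : Fin n) (h : i ≠ j),
      (elemRoot (F := F) h).map β.toMonoidHom = (elemRoot (F := F) h).map (conjP g).toMonoidHom := by
  classical
  choose k hk using exists_ne_fin (n := n) hn
  choose v ψ hv using fun i => isRootG_map hn β ⟨_, _, isRootGroup_elemRoot (F := F) (hk i)⟩
  choose w χ hχ using fun j => isRootG_map hn β ⟨_, _, isRootGroup_elemRoot (F := F) (hk j).symm⟩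
  -- every elementary root group
  have hroot : ∀ (i j : Fin n) (h : i ≠ j), IsRootGroup ((elemRoot (F := F) h).map β.toMonoidHom) (v i) (χ j) := by
    intro i j h
    have h1 : SP (elemRoot (F := F) (hk i)) (elemRoot (F := F) h) :=
      ⟨_, _, _, isRootGroup_elemRoot (hk i), isRootGroup_elemRoot h⟩
    have h2 : SH (elemRoot (F := F) (hk j).symm) (elemRoot (F := F) h) :=
      ⟨_, _, _, isRootGroup_elemRoot (hk j).symm, isRootGroup_elemRoot h⟩
    obtain ⟨a, η, hr⟩ := isRootG_map hn β ⟨_, _, isRootGroup_elemRoot (F := F) h⟩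
    obtain ⟨c, hc, ec⟩ := (sp_iff hn (hv i) hr).1 (hβ.1 _ _ h1)
    obtain ⟨d, hd, ed⟩ := (sh_iff hn (hχ j) hr).1 (hβ.2 _ _ h2)
    have := hr.smul (inv_ne_zero hc) (inv_ne_zero hd)
    rwa [ec, ed, smul_smul, smul_smul, inv_mul_cancel₀ hc, inv_mul_cancel₀ hd, one_smul, one_smul] at this
  have hperp : ∀ i j : Fin n, i ≠ j → χ j ⬝ᵥ v i = 0 := fun i j h => (hroot i j h).perp
  have hdiag : ∀ i : Fin n, χ i ⬝ᵥ v i ≠ 0 := by
    intro i h0
    have hW := isRootGroup_range (hv i).hv (hχ i).hψ h0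
    set W := (rootHom (v i) (χ i) h0).range
    set Z := W.map (β⁻¹ : MulAut Pn).toMonoidHom with hZdef
    obtain ⟨a, η, hZ⟩ := isRootG_map hn β⁻¹ ⟨_, _, hW⟩
    have hZW : Z.map β.toMonoidHom = W := by
      have := map_symm_map β⁻¹ W
      rwa [inv_inv] at this
    obtain ⟨j, hij⟩ := exists_ne_fin hn i
    have hp : SP (elemRoot (F := F) hij) Z := by
      have h1 : SP ((elemRoot (F := F) hij).map β.toMonoidHom) (Z.map β.toMonoidHom) := by
        rw [hZW]; exact ⟨_, _, _, hroot i j hij, hW⟩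
      rcases (col_iff hn ⟨_, _, isRootGroup_elemRoot hij⟩ ⟨a, η, hZ⟩).1
        ((col_map_iff hn β).1 (col_of_sp h1)) with h | h
      · exact h
      · have := map_inj' β (eq_of_sp_sh hn h1 (hβ.2 _ _ h))
        have e : Z = elemRoot (F := F) hij := this.symm
        rw [e]
        exact ⟨_, _, _, isRootGroup_elemRoot hij, isRootGroup_elemRoot hij⟩
    have hh : SH (elemRoot (F := F) hij.symm) Z := by
      have h1 : SH ((elemRoot (F := F) hij.symm).map β.toMonoidHom) (Z.map β.toMonoidHom) := by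
        rw [hZW]; exact ⟨_, _, _, hroot j i hij.symm, hW⟩
      rcases (col_iff hn ⟨_, _, isRootGroup_elemRoot hij.symm⟩ ⟨a, η, hZ⟩).1
        ((col_map_iff hn β).1 (col_of_sh h1)) with h | h
      · have := map_inj' β (eq_of_sp_sh hn (hβ.1 _ _ h) h1)
        have e : Z = elemRoot (F := F) hij.symm := this.symm
        rw [e]
        exact ⟨_, _, _, isRootGroup_elemRoot hij.symm, isRootGroup_elemRoot hij.symm⟩
      · exact h
    obtain ⟨c, hc, ec⟩ := (sp_iff hn (isRootGroup_elemRoot hij) hZ).1 hp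
    obtain ⟨d, hd, ed⟩ := (sh_iff hn (isRootGroup_elemRoot hij.symm) hZ).1 hh
    have := hZ.perp
    rw [ec, ed] at this
    simp [hc, hd] at this
  -- the frame
  let A : Matrix (Fin n) (Fin n) F := Matrix.of fun r c => v c r
  let B : Matrix (Fin n) (Fin n) F := Matrix.of fun r c => (χ r ⬝ᵥ v r)⁻¹ * χ r c
  have hBA : B * A = 1 := by
    ext r c
    rw [Matrix.mul_apply]
    simp only [A, B, Matrix.of_apply, mul_assoc, ← Finset.mul_sum]
    rw [show ∑ x, χ r x * v c x = χ r ⬝ᵥ v c from rfl]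
    rcases eq_or_ne r c with rfl | h
    · rw [inv_mul_cancel₀ (hdiag r), Matrix.one_apply_eq]
    · rw [hperp c r h.symm, mul_zero, Matrix.one_apply_ne h]
  have hAB : A * B = 1 := mul_eq_one_comm.1 hBA
  let g : GL (Fin n) F := ⟨A, B, hAB, hBA⟩
  refine ⟨g, fun i j h => ?_⟩
  have h1 := (isRootGroup_elemRoot (F := F) h).map_conjP g
  have e1 : (g : Matrix (Fin n) (Fin n) F) *ᵥ Pi.single i 1 = v i := by
    show A *ᵥ Pi.single i 1 = v i
    ext r; rw [mulVec_single_one]; rfl
  have e2 : Pi.single j (1 : F) ᵥ* ((g⁻¹ : GL (Fin n) F) : Matrix (Fin n) (Fin n) F) = (χ j ⬝ᵥ v j)⁻¹ • χ j := by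
    show Pi.single j (1 : F) ᵥ* B = _
    ext c; rw [single_one_vecMul]; rfl
  rw [e1, e2] at h1
  have h2 := h1.smul one_ne_zero (hdiag j)
  rw [one_smul, smul_smul, mul_inv_cancel₀ (hdiag j), one_smul] at h2
  rw [(hroot i j h).eq, h2.eq]

/-- An automorphism fixing every elementary root group is diagonal times field. -/
theorem exists_diag_field (hn : 3 ≤ n) (γ : MulAut Pn)
    (hγ : ∀ (i j : Fin n) (h : i ≠ j), (elemRoot (F := F) h).map γ.toMonoidHom = elemRoot (F := F) h) :
    ∃ (d : GL (Fin n) F) (σ : F ≃+* F), γ = conjP d * fieldP σ := by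
  classical
  have hn2 : ∀ i j : Fin n, ∃ k, k ≠ i ∧ k ≠ j := Cfsg.Lib.Classical.exists_third (by simpa using hn)
  have hex : ∀ (i j : Fin n) (h : i ≠ j) (x : F), ∃ y, γ (π (SpecialLinearGroup.transvection h x)) =
      π (SpecialLinearGroup.transvection h y) := by
    intro i j h x
    have hm : π (SpecialLinearGroup.transvection h x) ∈ elemRoot (F := F) h :=
      ⟨Multiplicative.ofAdd x, congrArg π (rankOne_single h x)⟩
    obtain ⟨y, hy⟩ : γ (π (SpecialLinearGroup.transvection h x)) ∈ elemRoot (F := F) h :=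
      hγ i j h ▸ ⟨_, hm, rfl⟩
    exact ⟨y.toAdd, hy.symm.trans (congrArg π (rankOne_single h y.toAdd))⟩
  choose a ha using hex
  have hinj : ∀ {i j : Fin n} (h : i ≠ j) {x y : F},
      π (SpecialLinearGroup.transvection h x) = π (SpecialLinearGroup.transvection h y) → x = y := by
    intro i j h x y e
    rw [← rankOne_single h x, ← rankOne_single h y] at e
    exact Multiplicative.ofAdd.injective (rootHom_injective hn (Pi.single_ne_zero_iff.2 one_ne_zero)
      (Pi.single_ne_zero_iff.2 one_ne_zero) (by simp [h]) e)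
  have hainj : ∀ {i j : Fin n} (h : i ≠ j), Function.Injective (a i j h) := by
    intro i j h x y e
    exact hinj h (γ.injective (by rw [ha, ha, e]))
  have hadd : ∀ {i j : Fin n} (h : i ≠ j) (x y : F), a i j h (x + y) = a i j h x + a i j h y := by
    intro i j h x y
    apply hinj h
    rw [← ha, SpecialLinearGroup.transvection_add, SpecialLinearGroup.transvection_add, map_mul, map_mul, map_mul,
      ha, ha]
  have hzero : ∀ {i j : Fin n} (h : i ≠ j), a i j h 0 = 0 := fun h => by
    have := hadd h 0 0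
    rwa [add_zero, left_eq_add] at this
  have hbr : ∀ {i j k : Fin n} (hij : i ≠ j) (hjk : j ≠ k) (hik : i ≠ k) (x y : F),
      ⁅SpecialLinearGroup.transvection hij x, SpecialLinearGroup.transvection hjk y⁆ =
        SpecialLinearGroup.transvection hik (x * y) := by
    intro i j k hij hjk hik x y
    rw [commutatorElement_def, SpecialLinearGroup.transvection_inv, SpecialLinearGroup.transvection_inv]
    apply Subtype.ext
    simp [SpecialLinearGroup.coe_mul, SpecialLinearGroup.transvection_coe, mul_add, add_mul,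
      single_mul_single_of_ne, hij, hjk, hik, hij.symm, hjk.symm, hik.symm]
    simp only [← single_neg]
    abel
  have hmul : ∀ {i j k : Fin n} (hij : i ≠ j) (hjk : j ≠ k) (hik : i ≠ k) (x y : F),
      a i k hik (x * y) = a i j hij x * a j k hjk y := by
    intro i j k hij hjk hik x y
    apply hinj hik
    rw [← hbr hij hjk hik (a i j hij x) (a j k hjk y), map_commutatorElement, ← ha, ← ha, ← ha,
      ← hbr hij hjk hik x y, map_commutatorElement, map_commutatorElement]
  set c : ∀ i j : Fin n, i ≠ j → F := fun i j h => a i j h 1 with hc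
  have hc0 : ∀ {i j : Fin n} (h : i ≠ j), c i j h ≠ 0 := fun h e =>
    one_ne_zero (hainj h (e.trans (hzero h).symm))
  have hcc : ∀ {i j k : Fin n} (hij : i ≠ j) (hjk : j ≠ k) (hik : i ≠ k),
      c i k hik = c i j hij * c j k hjk := fun hij hjk hik => by
    have := hmul hij hjk hik 1 1; rwa [one_mul] at this
  set i0 : Fin n := ⟨0, by omega⟩
  set d : Fin n → F := fun i => if h : i = i0 then 1 else c i i0 h
  have hd0 : ∀ i, d i ≠ 0 := fun i => by
    simp only [d]; split_ifs with h
    · exact one_ne_zero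
    · exact hc0 h
  have hcd : ∀ {i j : Fin n} (h : i ≠ j), c i j h * d j = d i := by
    intro i j h
    simp only [d]
    by_cases hj : j = i0
    · subst hj; rw [dif_pos rfl, dif_neg h, mul_one]
    rw [dif_neg hj]
    by_cases hi : i = i0
    · subst hi
      rw [dif_pos rfl]
      obtain ⟨k, hk0, hkj⟩ := hn2 i0 j
      have e1 := hcc h hkj.symm hk0.symm
      have e2 := hcc hj hk0.symm hkj.symm
      refine mul_right_cancel₀ (hc0 hk0.symm) ?_
      rw [one_mul, mul_assoc, ← e2, ← e1]
    · rw [dif_neg hi, ← hcc h hj hi]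
  set τ : ∀ i j : Fin n, i ≠ j → F → F := fun i j h x => a i j h x / c i j h with hτ
  have hτrow : ∀ {i j k : Fin n} (hij : i ≠ j) (hjk : j ≠ k) (hik : i ≠ k) (x y : F),
      τ i k hik (x * y) = τ i j hij x * τ j k hjk y := by
    intro i j k hij hjk hik x y
    simp only [hτ]
    rw [hmul hij hjk hik x y, hcc hij hjk hik, div_mul_div_comm]
  have hτone : ∀ {i j : Fin n} (h : i ≠ j), τ i j h 1 = 1 := fun h => div_self (hc0 h)
  have hτl : ∀ {i j k : Fin n} (hij : i ≠ j) (hjk : j ≠ k) (hik : i ≠ k), τ i k hik = τ i j hij := fun hij hjk hik =>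
    funext fun x => by have := hτrow hij hjk hik x 1; rwa [mul_one, hτone, mul_one] at this
  have hτr : ∀ {i j k : Fin n} (hij : i ≠ j) (hjk : j ≠ k) (hik : i ≠ k), τ i k hik = τ j k hjk := fun hij hjk hik =>
    funext fun x => by have := hτrow hij hjk hik 1 x; rwa [one_mul, hτone, one_mul] at this
  set i1 : Fin n := ⟨1, by omega⟩
  have h01 : i0 ≠ i1 := by simp [i0, i1, Fin.ext_iff]
  have hcol : ∀ {i l j : Fin n} (hi : i ≠ j) (hl : l ≠ j), τ i j hi = τ l j hl := by
    intro i l j hi hl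
    rcases eq_or_ne i l with rfl | hil
    · rfl
    · exact hτr hil hl hi
  have hrow : ∀ {i j k : Fin n} (hj : i ≠ j) (hk : i ≠ k), τ i j hj = τ i k hk := by
    intro i j k hj hk
    rcases eq_or_ne j k with rfl | hjk
    · rfl
    · exact hτl hk hjk.symm hj
  have hall : ∀ {i j : Fin n} (h : i ≠ j), τ i j h = τ i0 i1 h01 := by
    intro i j h
    obtain ⟨k, hk, hk1⟩ := hn2 i i0
    rw [hrow h hk.symm, hcol hk.symm hk1.symm, hrow hk1.symm h01]
  set σ₀ := τ i0 i1 h01
  obtain ⟨i2, h20, h21⟩ := hn2 i0 i1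
  have σmul : ∀ x y, σ₀ (x * y) = σ₀ x * σ₀ y := fun x y => by
    have := hτrow h20.symm h21 h01 x y
    rwa [hall h21, hall h20.symm] at this
  have σadd : ∀ x y, σ₀ (x + y) = σ₀ x + σ₀ y := fun x y => by
    simp only [σ₀, hτ]; rw [hadd, add_div]
  have σinj : Function.Injective σ₀ := fun x y e => hainj h01 ((div_left_inj' (hc0 h01)).1 e)
  let σ : F ≃+* F :=
    { Equiv.ofBijective σ₀ (Finite.injective_iff_bijective.1 σinj) with
      map_mul' := σmul
      map_add' := σadd }
  let D : GL (Fin n) F := ⟨Matrix.diagonal d, Matrix.diagonal fun i => (d i)⁻¹,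
    by rw [Matrix.diagonal_mul_diagonal, show (fun i => d i * (d i)⁻¹) = fun _ => (1 : F) from
      funext fun i => mul_inv_cancel₀ (hd0 i), Matrix.diagonal_one],
    by rw [Matrix.diagonal_mul_diagonal, show (fun i => (d i)⁻¹ * d i) = fun _ => (1 : F) from
      funext fun i => inv_mul_cancel₀ (hd0 i), Matrix.diagonal_one]⟩
  refine ⟨D, σ, aut_ext fun i j h x => ?_⟩
  rw [ha, MulAut.mul_apply, fieldP_apply, conjP_apply]
  congr 1
  apply Subtype.ext
  rw [coe_conjSL, coe_fieldSL, transv_eq, transv_eq]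
  have ea : a i j h x = d i * σ₀ x * (d j)⁻¹ := by
    rw [← hall h]
    simp only [hτ]
    rw [← hcd h]
    have := hc0 h
    have := hd0 j
    field_simp
  have emap : ((1 : Matrix (Fin n) (Fin n) F) + x • vecMulVec (Pi.single i 1) (Pi.single j 1)).map σ =
      1 + σ₀ x • vecMulVec (Pi.single i 1) (Pi.single j 1) := by
    ext r s
    simp only [Matrix.map_apply, Matrix.add_apply, Matrix.one_apply, Matrix.smul_apply, vecMulVec_apply,
      Pi.single_apply, smul_eq_mul, map_add, map_mul, apply_ite σ, map_one, map_zero]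
    rfl
  rw [emap]
  change _ = Matrix.diagonal d * (1 + σ₀ x • vecMulVec (Pi.single i 1) (Pi.single j 1)) *
    Matrix.diagonal fun i => (d i)⁻¹
  ext r s
  rw [Matrix.mul_diagonal, Matrix.diagonal_mul]
  simp only [Matrix.add_apply, Matrix.one_apply, Matrix.smul_apply, vecMulVec_apply, Pi.single_apply, smul_eq_mul, ea]
  have := hd0 r
  split_ifs <;> subst_vars <;> first | (exact absurd rfl h) | (field_simp; done) | (field_simp; ring)

/-- The classification of the automorphisms. -/
theorem exists_decomp (hn : 3 ≤ n) (β : MulAut Pn) :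
    ∃ (g : GL (Fin n) F) (σ : F ≃+* F) (γ : MulAut Pn), (γ = 1 ∨ γ = graphP) ∧ β = conjP g * fieldP σ * γ := by
  have main : ∀ β : MulAut Pn, Preserves β → ∃ (g : GL (Fin n) F) (σ : F ≃+* F), β = conjP g * fieldP σ := by
    intro β hβ
    obtain ⟨g, hg⟩ := exists_frame hn β hβ
    have hfix : ∀ (i j : Fin n) (h : i ≠ j),
        (elemRoot (F := F) h).map ((conjP g)⁻¹ * β).toMonoidHom = elemRoot (F := F) h := by
      intro i j h
      have : (elemRoot (F := F) h).map ((conjP g)⁻¹ * β).toMonoidHom =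
          ((elemRoot (F := F) h).map β.toMonoidHom).map ((conjP g)⁻¹ : MulAut Pn).toMonoidHom := by
        rw [Subgroup.map_map]; rfl
      rw [this, hg, map_symm_map]
    obtain ⟨d, σ, e⟩ := exists_diag_field hn _ hfix
    exact ⟨g * d, σ, by rw [map_mul, mul_assoc, ← e, mul_inv_cancel_left]⟩
  rcases preserves_or hn β with h | h
  · obtain ⟨g, σ, e⟩ := main β h
    exact ⟨g, σ, 1, Or.inl rfl, by rw [mul_one, e]⟩
  · -- normalise `graph * β * graph`
    have h' : Preserves ((graphP * β : MulAut Pn)) := h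
    obtain ⟨g, σ, e⟩ := main _ h'
    have hcomm : graphP * fieldP σ = fieldP σ * (graphP : MulAut Pn) := by
      rw [graphP, fieldP, MonoidHom.comp_apply, ← map_mul, ← map_mul]
      congr 1
      refine MulEquiv.ext fun M => ?_
      change SpecialLinearGroup.transpose (Matrix.SpecialLinearGroup.map σ.toRingHom M)⁻¹ =
        Matrix.SpecialLinearGroup.map σ.toRingHom (SpecialLinearGroup.transpose M⁻¹)
      rw [← map_inv]
      exact Subtype.ext (Matrix.transpose_map).symm
    -- move the graph automorphism past `conjP g`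
    let g' : GL (Fin n) F :=
      ⟨((g⁻¹ : GL (Fin n) F) : Matrix (Fin n) (Fin n) F)ᵀ, (g : Matrix (Fin n) (Fin n) F)ᵀ,
        by rw [← Matrix.transpose_mul, g.mul_inv, Matrix.transpose_one],
        by rw [← Matrix.transpose_mul, g.inv_mul, Matrix.transpose_one]⟩
    have hswap : graphP * conjP g = conjP g' * (graphP : MulAut Pn) := by
      rw [graphP, conjP, MonoidHom.comp_apply, MonoidHom.comp_apply, ← map_mul, ← map_mul]
      congr 1
      refine MulEquiv.ext fun M => Subtype.ext ?_
      change (((conjSL g M)⁻¹ : SLn) : Matrix (Fin n) (Fin n) F)ᵀ =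
        ((g⁻¹ : GL (Fin n) F) : Matrix (Fin n) (Fin n) F)ᵀ * ((M⁻¹ : SLn) : Matrix (Fin n) (Fin n) F)ᵀ *
          (g : Matrix (Fin n) (Fin n) F)ᵀ
      rw [← map_inv, coe_conjSL, Matrix.transpose_mul, Matrix.transpose_mul, mul_assoc]
    refine ⟨g', σ, graphP, Or.inr rfl, ?_⟩
    calc β = graphP * (graphP * β) := by rw [← mul_assoc, graphP_mul_self, one_mul]
      _ = graphP * (conjP g * fieldP σ) := by rw [e]
      _ = conjP g' * fieldP σ * graphP := by rw [← mul_assoc, hswap, mul_assoc, hcomm, mul_assoc]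

end Cfsg.Lib.Known.AutPSLn
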