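import Cfsg.Agent.Known.AutPSLn.Sylow

/-!
Collinear root groups, and the two types of stars.
-/

namespace Cfsg.Lib.Known.AutPSLn

open Matrix Cfsg.Lib.Known.ThreeUnipotents

variable {F : Type*} [Field F] {n : ℕ}

local notation "SLn" => Matrix.SpecialLinearGroup (Fin n) F
local notation "Pn" => Matrix.ProjectiveSpecialLinearGroup (Fin n) F

/-- A root group for some data. -/
def IsRootG (Z : Subgroup Pn) : Prop := ∃ v ψ : Fin n → F, IsRootGroup Z v ψ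

/-- Same point. -/
def SP (Z Z' : Subgroup Pn) : Prop := ∃ v ψ χ : Fin n → F, IsRootGroup Z v ψ ∧ IsRootGroup Z' v χ

/-- Same hyperplane. -/
def SH (Z Z' : Subgroup Pn) : Prop := ∃ v w ψ : Fin n → F, IsRootGroup Z v ψ ∧ IsRootGroup Z' w ψ

/-- Commuting, with all products in root groups. -/
def Col (Z Z' : Subgroup Pn) : Prop :=
  ∀ a ∈ Z, ∀ b ∈ Z', a * b = b * a ∧ (a * b = 1 ∨ ∃ W, IsRootG W ∧ a * b ∈ W)

theorem sp_of_smul {Z Z' : Subgroup Pn} {v ψ w χ : Fin n → F} (h : IsRootGroup Z v ψ) (h' : IsRootGroup Z' w χ)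
    {c : F} (hc : c ≠ 0) (e : w = c • v) : SP Z Z' := by
  refine ⟨v, ψ, χ, h, ?_⟩
  have := h'.smul (inv_ne_zero hc) one_ne_zero
  rwa [e, smul_smul, inv_mul_cancel₀ hc, one_smul, one_smul] at this

theorem sh_of_smul {Z Z' : Subgroup Pn} {v ψ w χ : Fin n → F} (h : IsRootGroup Z v ψ) (h' : IsRootGroup Z' w χ)
    {c : F} (hc : c ≠ 0) (e : χ = c • ψ) : SH Z Z' := by
  refine ⟨v, w, ψ, h, ?_⟩
  have := h'.smul one_ne_zero (inv_ne_zero hc)
  rwa [e, smul_smul, inv_mul_cancel₀ hc, one_smul, one_smul] at this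

theorem sp_iff (hn : 3 ≤ n) {Z Z' : Subgroup Pn} {v ψ w χ : Fin n → F} (h : IsRootGroup Z v ψ)
    (h' : IsRootGroup Z' w χ) : SP Z Z' ↔ ∃ c : F, c ≠ 0 ∧ w = c • v := by
  refine ⟨?_, fun ⟨c, hc, e⟩ => sp_of_smul h h' hc e⟩
  rintro ⟨u, η, θ, h1, h2⟩
  obtain ⟨⟨a, ha, ea⟩, -⟩ := h.unique hn h1
  obtain ⟨⟨b, hb, eb⟩, -⟩ := h2.unique hn h'
  exact ⟨b * a, mul_ne_zero hb ha, by rw [eb, ea, smul_smul]⟩

theorem sh_iff (hn : 3 ≤ n) {Z Z' : Subgroup Pn} {v ψ w χ : Fin n → F} (h : IsRootGroup Z v ψ)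
    (h' : IsRootGroup Z' w χ) : SH Z Z' ↔ ∃ c : F, c ≠ 0 ∧ χ = c • ψ := by
  refine ⟨?_, fun ⟨c, hc, e⟩ => sh_of_smul h h' hc e⟩
  rintro ⟨u, u', η, h1, h2⟩
  obtain ⟨-, a, ha, ea⟩ := h.unique hn h1
  obtain ⟨-, b, hb, eb⟩ := h2.unique hn h'
  exact ⟨b * a, mul_ne_zero hb ha, by rw [eb, ea, smul_smul]⟩

theorem SP.symm {Z Z' : Subgroup Pn} (h : SP Z Z') : SP Z' Z := by
  obtain ⟨v, ψ, χ, h1, h2⟩ := h; exact ⟨v, χ, ψ, h2, h1⟩

theorem SH.symm {Z Z' : Subgroup Pn} (h : SH Z Z') : SH Z' Z := by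
  obtain ⟨v, w, ψ, h1, h2⟩ := h; exact ⟨w, v, ψ, h2, h1⟩

theorem SP.trans (hn : 3 ≤ n) {Z Z' Z'' : Subgroup Pn} (h : SP Z Z') (h' : SP Z' Z'') : SP Z Z'' := by
  obtain ⟨v, ψ, χ, h1, h2⟩ := h
  obtain ⟨w, η, θ, h3, h4⟩ := h'
  obtain ⟨⟨a, ha, ea⟩, -⟩ := h2.unique hn h3
  exact sp_of_smul h1 h4 ha ea

theorem SH.trans (hn : 3 ≤ n) {Z Z' Z'' : Subgroup Pn} (h : SH Z Z') (h' : SH Z' Z'') : SH Z Z'' := by
  obtain ⟨v, w, ψ, h1, h2⟩ := h
  obtain ⟨u, u', η, h3, h4⟩ := h'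
  obtain ⟨-, a, ha, ea⟩ := h2.unique hn h3
  exact sh_of_smul h1 h4 ha ea

theorem eq_of_sp_sh (hn : 3 ≤ n) {Z Z' : Subgroup Pn} (h : SP Z Z') (h' : SH Z Z') : Z = Z' := by
  obtain ⟨v, ψ, χ, h1, h2⟩ := h
  obtain ⟨c, hc, e⟩ := (sh_iff hn h1 h2).1 h'
  have h3 := h1.smul (a := 1) (b := c) one_ne_zero hc
  rw [one_smul, ← e] at h3
  rw [h3.eq, h2.eq]

theorem col_of_sp {Z Z' : Subgroup Pn} (h : SP Z Z') : Col Z Z' := by
  obtain ⟨v, ψ, χ, h1, h2⟩ := h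
  intro a ha b hb
  rw [h1.eq] at ha
  rw [h2.eq] at hb
  obtain ⟨x, rfl⟩ := ha
  obtain ⟨y, rfl⟩ := hb
  set η := x.toAdd • ψ + y.toAdd • χ with hη'
  have hη : η ⬝ᵥ v = 0 := by simp [η, add_dotProduct, smul_dotProduct, h1.perp, h2.perp]
  have e : ∀ (a b : F) (φ φ' : Fin n → F) (hp : φ ⬝ᵥ v = 0) (hp' : φ' ⬝ᵥ v = 0),
      a • φ + b • φ' = η → π (rankOne v φ hp a) * π (rankOne v φ' hp' b) = π (rankOne v η hη 1) := by
    intro a b φ φ' hp hp' he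
    rw [← map_mul]
    congr 1
    apply Subtype.ext
    change (1 + a • vecMulVec v φ) * (1 + b • vecMulVec v φ') = 1 + (1 : F) • vecMulVec v η
    rw [← he, mul_add, mul_one, add_mul, one_mul, smul_mul_assoc, mul_smul_comm, vecMulVec_mul_vecMulVec, hp]
    simp [vecMulVec_add, vecMulVec_smul, add_assoc]
  have e1 : rootHom v ψ h1.perp x * rootHom v χ h2.perp y = π (rankOne v η hη 1) :=
    e x.toAdd y.toAdd ψ χ h1.perp h2.perp rfl
  refine ⟨e1.trans (e y.toAdd x.toAdd χ ψ h2.perp h1.perp (add_comm _ _)).symm, ?_⟩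
  rw [e1]
  by_cases h0 : η = 0
  · left
    rw [← map_one π]
    congr 1
    exact Subtype.ext (by simp [coe_rankOne, h0])
  · exact Or.inr ⟨_, ⟨v, η, isRootGroup_range h1.hv h0 hη⟩, ⟨Multiplicative.ofAdd 1, rfl⟩⟩

theorem col_map_graph {Z Z' : Subgroup Pn} (h : Col Z Z') :
    Col (Z.map graphP.toMonoidHom) (Z'.map graphP.toMonoidHom) := by
  rintro _ ⟨a, ha, rfl⟩ _ ⟨b, hb, rfl⟩
  obtain ⟨h1, h2⟩ := h a ha b hb
  refine ⟨by rw [← map_mul, h1, map_mul], ?_⟩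
  rcases h2 with h2 | ⟨W, ⟨v, ψ, hW⟩, hmem⟩
  · left; rw [← map_mul, h2, map_one]
  · exact Or.inr ⟨_, ⟨ψ, v, hW.map_graphP⟩, ⟨_, hmem, map_mul _ _ _⟩⟩

theorem map_graph_graph (Z : Subgroup Pn) : (Z.map graphP.toMonoidHom).map graphP.toMonoidHom = Z := by
  rw [Subgroup.map_map]
  conv_rhs => rw [← Subgroup.map_id Z]
  congr 1
  exact MonoidHom.ext fun x => MulEquiv.congr_fun graphP_mul_self x

theorem col_of_sh {Z Z' : Subgroup Pn} (h : SH Z Z') : Col Z Z' := by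
  obtain ⟨v, w, ψ, h1, h2⟩ := h
  have := col_map_graph (col_of_sp ⟨ψ, v, w, h1.map_graphP, h2.map_graphP⟩)
  rwa [map_graph_graph, map_graph_graph] at this

theorem col_iff (hn : 3 ≤ n) {Z Z' : Subgroup Pn} (hZ : IsRootG Z) (hZ' : IsRootG Z') :
    Col Z Z' ↔ SP Z Z' ∨ SH Z Z' := by
  refine ⟨fun h => ?_, fun h => h.elim col_of_sp col_of_sh⟩
  obtain ⟨v, ψ, h1⟩ := hZ
  obtain ⟨w, χ, h2⟩ := hZ'
  by_contra hno
  push Not at hno
  obtain ⟨hp, hh⟩ := hno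
  have hvw : ∀ c : F, w ≠ c • v := fun c e => by
    rcases eq_or_ne c 0 with rfl | hc
    · exact h2.hv (by rw [e, zero_smul])
    · exact hp (sp_of_smul h1 h2 hc e)
  have hψχ : ∀ c : F, χ ≠ c • ψ := fun c e => by
    rcases eq_or_ne c 0 with rfl | hc
    · exact h2.hψ (by rw [e, zero_smul])
    · exact hh (sh_of_smul h1 h2 hc e)
  obtain ⟨hcomm, hprod⟩ := h _ (h1.mem 1) _ (h2.mem 1)
  set A := rankOne v ψ h1.perp (1 : F)
  set B := rankOne w χ h2.perp (1 : F)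
  have hA : (A : Matrix (Fin n) (Fin n) F) = 1 + vecMulVec v ψ := by rw [coe_rankOne, one_smul]
  have hB : (B : Matrix (Fin n) (Fin n) F) = 1 + vecMulVec w χ := by rw [coe_rankOne, one_smul]
  obtain ⟨z, hz, z1, z2⟩ := exists_ne_zero_of_two hn ψ χ
  have hfA : (A : Matrix (Fin n) (Fin n) F) *ᵥ z = z := rankOne_fix _ _ _ _ z1
  have hfB : (B : Matrix (Fin n) (Fin n) F) *ᵥ z = z := rankOne_fix _ _ _ _ z2
  have hAB : A * B = B * A := π_eq_of_fix (by rw [map_mul, map_mul]; exact hcomm) hz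
    (by rw [cmul, ← mulVec_mulVec, hfB, hfA]) (by rw [cmul, ← mulVec_mulVec, hfA, hfB])
  have hcm : (ψ ⬝ᵥ w) • vecMulVec v χ = (χ ⬝ᵥ v) • vecMulVec w ψ := by
    have := congrArg Subtype.val hAB
    change (A : Matrix (Fin n) (Fin n) F) * B = (B : Matrix (Fin n) (Fin n) F) * A at this
    rw [hA, hB, mul_add, mul_one, add_mul, one_mul, mul_add, mul_one, add_mul, one_mul, vecMulVec_mul_vecMulVec,
      vecMulVec_mul_vecMulVec, vecMulVec_smul, vecMulVec_smul] at this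
    linear_combination (norm := module) this
  have hψw : ψ ⬝ᵥ w = 0 := by
    by_contra hne
    obtain ⟨⟨c, -, e⟩, -⟩ := exists_smul_of_vecMulVec h2.hv h1.hψ h1.hv hne hcm.symm h2.hψ
    rcases eq_or_ne c 0 with rfl | hc
    · exact h1.hv (by rw [e, zero_smul])
    · exact hvw c⁻¹ (by rw [e, smul_smul, inv_mul_cancel₀ hc, one_smul])
  have hχv : χ ⬝ᵥ v = 0 := by
    by_contra hne
    rw [hψw, zero_smul] at hcm
    exact (smul_ne_zero hne (vecMulVec_ne_zero h2.hv h1.hψ)) hcm.symm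
  -- the product is a root element
  obtain ⟨u, η, c, y, hc⟩ : ∃ (u η : Fin n → F) (c y : F),
      c • (1 + vecMulVec v ψ + vecMulVec w χ) = (1 : Matrix (Fin n) (Fin n) F) + y • vecMulVec u η := by
    have hABv : ((A * B : SLn) : Matrix (Fin n) (Fin n) F) = 1 + vecMulVec v ψ + vecMulVec w χ := by
      rw [cmul, hA, hB, mul_add, mul_one, add_mul, one_mul, vecMulVec_mul_vecMulVec, vecMulVec_smul, hψw]
      simp
    rcases hprod with hp1 | ⟨W, ⟨u, η, hW⟩, hmem⟩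
    · obtain ⟨c, hc⟩ := π_eq (show π (A * B) = π 1 by rw [map_mul, map_one]; exact hp1)
      exact ⟨0, 0, c, 0, by rw [zero_smul, add_zero, ← hABv, ← hc]; rfl⟩
    · rw [hW.eq] at hmem
      obtain ⟨x, hx⟩ := hmem
      obtain ⟨c, hc⟩ := π_eq (M := A * B) (N := rankOne u η hW.perp x.toAdd) (by rw [map_mul]; exact hx.symm)
      exact ⟨u, η, c, x.toAdd, by rw [← hABv, ← hc]; rfl⟩
  have happ : ∀ q, c • (q + (ψ ⬝ᵥ q) • v + (χ ⬝ᵥ q) • w) = q + (y * (η ⬝ᵥ q)) • u := by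
    intro q
    have := congrArg (· *ᵥ q) hc
    simp only [smul_mulVec, add_mulVec, one_mulVec, vecMulVec_mulVec] at this
    simpa [smul_smul, mul_comm] using this
  have hdep : ∀ a b : F, a • v = b • u → a ≠ 0 → b ≠ 0 := by
    intro a b e ha hb
    rw [hb, zero_smul, smul_eq_zero] at e
    exact e.elim ha h1.hv
  have hdep2 : ∀ a b a' b' : F, a ≠ 0 → a' ≠ 0 → a • v = b • u → a' • w = b' • u → False := by
    intro a b a' b' ha ha' e e'
    have hb := hdep a b e ha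
    apply hvw (a'⁻¹ * b' * b⁻¹ * a)
    rw [mul_smul, e, smul_smul, mul_assoc (a'⁻¹ * b'), inv_mul_cancel₀ hb, mul_one, mul_smul, ← e', smul_smul,
      inv_mul_cancel₀ ha', one_smul]
  have hc1 : c = 1 := by
    by_contra hne
    have e1 := happ v
    rw [h1.perp, hχv, zero_smul, zero_smul, add_zero, add_zero] at e1
    have e2 := happ w
    rw [hψw, h2.perp, zero_smul, zero_smul, add_zero, add_zero] at e2
    exact hdep2 (c - 1) (y * (η ⬝ᵥ v)) (c - 1) (y * (η ⬝ᵥ w)) (sub_ne_zero.2 hne) (sub_ne_zero.2 hne)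
      (by rw [sub_smul, one_smul, e1, add_sub_cancel_left]) (by rw [sub_smul, one_smul, e2, add_sub_cancel_left])
  have hdet : ∀ (α β : Fin n → F), (∀ c : F, β ≠ c • α) → α ≠ 0 → ∃ q, α ⬝ᵥ q = 0 ∧ β ⬝ᵥ q ≠ 0 := by
    intro α β hind hα
    obtain ⟨j, hj⟩ := Function.ne_iff.1 hα
    obtain ⟨i, hi⟩ := Function.ne_iff.1 (hind (β j / α j))
    have hj' : α j ≠ 0 := hj
    refine ⟨Pi.single i (α j) - Pi.single j (α i), ?_, ?_⟩
    · simp [dotProduct_sub]; ring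
    · simp only [dotProduct_sub, dotProduct_single]
      intro h
      apply hi
      simp only [Pi.smul_apply, smul_eq_mul]
      rw [div_mul_eq_mul_div, eq_div_iff hj']
      linear_combination h
  obtain ⟨q, q1, q2⟩ := hdet ψ χ hψχ h1.hψ
  obtain ⟨r, r1, r2⟩ := hdet χ ψ (fun k e => by
    rcases eq_or_ne k 0 with rfl | hk
    · exact h1.hψ (by rw [e, zero_smul])
    · exact hψχ k⁻¹ (by rw [e, smul_smul, inv_mul_cancel₀ hk, one_smul])) h2.hψ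
  have e1 := happ r
  have e2 := happ q
  rw [hc1, one_smul, add_assoc, add_right_inj, r1, zero_smul, add_zero] at e1
  rw [hc1, one_smul, add_assoc, add_right_inj, q1, zero_smul, zero_add] at e2
  exact hdep2 _ _ _ _ r2 q2 e1 e2

variable [Fintype F]

theorem isRootG_map (hn : 3 ≤ n) (β : MulAut Pn) {Z : Subgroup Pn} (h : IsRootG Z) :
    IsRootG (Z.map β.toMonoidHom) := by
  obtain ⟨v, ψ, h⟩ := h
  exact exists_isRootGroup_map hn β h

theorem col_map (hn : 3 ≤ n) (β : MulAut Pn) {Z Z' : Subgroup Pn} (h : Col Z Z') :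
    Col (Z.map β.toMonoidHom) (Z'.map β.toMonoidHom) := by
  rintro _ ⟨a, ha, rfl⟩ _ ⟨b, hb, rfl⟩
  obtain ⟨h1, h2⟩ := h a ha b hb
  refine ⟨by rw [← map_mul, h1, map_mul], ?_⟩
  rcases h2 with h2 | ⟨W, hW, hmem⟩
  · left; rw [← map_mul, h2, map_one]
  · exact Or.inr ⟨_, isRootG_map hn β hW, ⟨_, hmem, map_mul _ _ _⟩⟩

theorem map_symm_map (β : MulAut Pn) (Z : Subgroup Pn) :
    (Z.map β.toMonoidHom).map (β⁻¹ : MulAut Pn).toMonoidHom = Z := by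
  rw [Subgroup.map_map]
  conv_rhs => rw [← Subgroup.map_id Z]
  congr 1
  exact MonoidHom.ext fun x => β.symm_apply_apply x

theorem map_inj' (β : MulAut Pn) {Z Z' : Subgroup Pn} (h : Z.map β.toMonoidHom = Z'.map β.toMonoidHom) : Z = Z' := by
  rw [← map_symm_map β Z, h, map_symm_map]

theorem col_map_iff (hn : 3 ≤ n) (β : MulAut Pn) {Z Z' : Subgroup Pn} :
    Col (Z.map β.toMonoidHom) (Z'.map β.toMonoidHom) ↔ Col Z Z' := by
  refine ⟨fun h => ?_, col_map hn β⟩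
  have := col_map hn β⁻¹ h
  rwa [map_symm_map, map_symm_map] at this

/-- Types preserved. -/
def Preserves (β : MulAut Pn) : Prop :=
  (∀ Z Z' : Subgroup Pn, SP Z Z' → SP (Z.map β.toMonoidHom) (Z'.map β.toMonoidHom)) ∧
  (∀ Z Z' : Subgroup Pn, SH Z Z' → SH (Z.map β.toMonoidHom) (Z'.map β.toMonoidHom))

/-- A functional killing two vectors, independent of a given one. -/
theorem exists_second (hn : 3 ≤ n) {v : Fin n → F} (ψ : Fin n → F) :
    ∃ χ : Fin n → F, χ ≠ 0 ∧ χ ⬝ᵥ v = 0 ∧ ∀ c : F, c ≠ 0 → χ ≠ c • ψ := by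
  by_cases hψ : ψ = 0
  · obtain ⟨χ, hχ, h1, -⟩ := exists_ne_zero_of_two hn v v
    exact ⟨χ, hχ, by rw [dotProduct_comm]; exact h1, fun c _ e => hχ (by rw [e, hψ, smul_zero])⟩
  obtain ⟨j, hj⟩ := Function.ne_iff.1 hψ
  obtain ⟨χ, hχ, h1, h2⟩ := exists_ne_zero_of_two hn v (Pi.single j 1)
  refine ⟨χ, hχ, by rw [dotProduct_comm]; exact h1, fun c hc e => ?_⟩
  rw [single_dotProduct, one_mul, e, Pi.smul_apply, smul_eq_mul] at h2
  exact (mul_ne_zero hc hj) h2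

/-- Either the types are preserved or both are swapped. -/
theorem preserves_or (hn : 3 ≤ n) (β : MulAut Pn) : Preserves β ∨ Preserves (graphP * β) := by
  have himg : ∀ {Z Z' : Subgroup Pn}, SP Z Z' ∨ SH Z Z' →
      SP (Z.map β.toMonoidHom) (Z'.map β.toMonoidHom) ∨ SH (Z.map β.toMonoidHom) (Z'.map β.toMonoidHom) := by
    intro Z Z' h
    have hr : IsRootG Z ∧ IsRootG Z' := by
      rcases h with ⟨v, ψ, χ, a, b⟩ | ⟨v, w, ψ, a, b⟩
      · exact ⟨⟨v, ψ, a⟩, ⟨v, χ, b⟩⟩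
      · exact ⟨⟨v, ψ, a⟩, ⟨w, ψ, b⟩⟩
    exact (col_iff hn (isRootG_map hn β hr.1) (isRootG_map hn β hr.2)).1
      ((col_map_iff hn β).2 ((col_iff hn hr.1 hr.2).2 h))
  have hback : ∀ {Z Z' : Subgroup Pn}, IsRootG Z → IsRootG Z' →
      SP (Z.map β.toMonoidHom) (Z'.map β.toMonoidHom) ∨ SH (Z.map β.toMonoidHom) (Z'.map β.toMonoidHom) →
      SP Z Z' ∨ SH Z Z' := by
    intro Z Z' h h' hc
    exact (col_iff hn h h').1 ((col_map_iff hn β).1 ((col_iff hn (isRootG_map hn β h) (isRootG_map hn β h')).2 hc))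
  have hself : ∀ {Z : Subgroup Pn}, IsRootG Z → SP Z Z ∧ SH Z Z := fun ⟨v, ψ, h⟩ =>
    ⟨⟨v, ψ, ψ, h, h⟩, ⟨v, v, ψ, h, h⟩⟩
  -- a root through `Z` of the other kind
  have hother : ∀ {Z Z' : Subgroup Pn}, SH Z Z' → Z ≠ Z' → ∃ W, SP Z W ∧ W ≠ Z ∧ ¬ SP W Z' ∧ ¬ SH W Z' := by
    intro Z Z' h hne
    obtain ⟨v, w, ψ, h1, h2⟩ := h
    obtain ⟨χ, hχ, hχv, hind⟩ := exists_second hn (v := v) ψ
    have hW := isRootGroup_range h1.hv hχ hχv
    refine ⟨_, ⟨v, ψ, χ, h1, hW⟩, fun e => ?_, fun e => ?_, fun e => ?_⟩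
    · obtain ⟨-, c, hc, ec⟩ := h1.unique hn (e ▸ hW)
      exact hind c hc ec
    · exact hne (eq_of_sp_sh hn ((SP.trans hn ⟨v, ψ, χ, h1, hW⟩ e)) ⟨v, w, ψ, h1, h2⟩)
    · obtain ⟨c, hc, ec⟩ := (sh_iff hn hW h2).1 e
      exact hind c⁻¹ (inv_ne_zero hc) (by rw [ec, smul_smul, inv_mul_cancel₀ hc, one_smul])
  by_cases hA : ∀ Z Z' : Subgroup Pn, SP Z Z' → SP (Z.map β.toMonoidHom) (Z'.map β.toMonoidHom)
  · refine Or.inl ⟨hA, fun Z Z' h => ?_⟩
    by_contra hno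
    have hsp := (himg (Or.inr h)).resolve_right hno
    rcases eq_or_ne Z Z' with rfl | hne
    · obtain ⟨v, w, ψ, h1, -⟩ := h
      exact hno (hself (isRootG_map hn β ⟨v, ψ, h1⟩)).2
    obtain ⟨W, hW, -, hW1, hW2⟩ := hother h hne
    have h3 : SP (W.map β.toMonoidHom) (Z'.map β.toMonoidHom) := SP.trans hn (hA _ _ hW).symm hsp
    obtain ⟨v, ψ, χ, h1, h2⟩ := hW
    obtain ⟨v', w', ψ', -, h4⟩ := h
    exact (hback ⟨v, χ, h2⟩ ⟨w', ψ', h4⟩ (Or.inl h3)).elim hW1 hW2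
  right
  push Not at hA
  obtain ⟨Z0, Z0', hsp0, hnsp0⟩ := hA
  have hne0 : Z0 ≠ Z0' := by
    rintro rfl
    obtain ⟨v, ψ, -, h1, -⟩ := hsp0
    exact hnsp0 (hself (isRootG_map hn β ⟨v, ψ, h1⟩)).1
  have hsh0 := (himg (Or.inl hsp0)).resolve_left hnsp0
  obtain ⟨v0, ψ0, χ0, hZ0, hZ0'⟩ := hsp0
  -- the whole star at `v0` goes to a hyperplane star
  have hstar : ∀ Z, IsRootG Z → SP Z0 Z → SH (Z0.map β.toMonoidHom) (Z.map β.toMonoidHom) := by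
    intro Z hZ h
    by_contra hno
    have hs := (himg (Or.inl h)).resolve_right hno
    rcases himg (Or.inl (SP.trans hn (SP.symm ⟨v0, ψ0, χ0, hZ0, hZ0'⟩) h)) with h' | h'
    · exact hnsp0 (SP.trans hn hs h'.symm)
    · exact hno (SH.trans hn hsh0 h')
  -- every point star goes to a hyperplane star
  have hall : ∀ Z Z' : Subgroup Pn, SP Z Z' → SH (Z.map β.toMonoidHom) (Z'.map β.toMonoidHom) := by
    intro Z Z' h
    obtain ⟨v, ψ, χ, hZ, hZ'⟩ := h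
    by_cases hp : SP Z0 Z
    · exact SH.trans hn (hstar Z ⟨v, ψ, hZ⟩ hp).symm (hstar Z' ⟨v, χ, hZ'⟩ (SP.trans hn hp ⟨v, ψ, χ, hZ, hZ'⟩))
    obtain ⟨η, hη, η1, η2⟩ := exists_ne_zero_of_two hn v0 v
    rw [dotProduct_comm] at η1 η2
    have hA' := isRootGroup_range hZ0.hv hη η1
    have hC := isRootGroup_range hZ.hv hη η2
    set A := (rootHom v0 η η1).range
    set C := (rootHom v η η2).range
    have hAC : SH A C := ⟨v0, v, η, hA', hC⟩
    have hA0 : SP Z0 A := ⟨v0, ψ0, η, hZ0, hA'⟩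
    have hAC' : ¬ SP A C := fun e => hp (SP.trans hn hA0 (SP.trans hn e ⟨v, η, ψ, hC, hZ⟩))
    -- the pair `A, C` goes to a point pair
    have hac : ¬ SH (A.map β.toMonoidHom) (C.map β.toMonoidHom) := by
      intro e
      obtain ⟨W, hW, hWA, hW1, hW2⟩ := hother hAC (fun e' => hAC' (e' ▸ (hself ⟨v0, η, hA'⟩).1))
      obtain ⟨w1, ω1, ω, hW0, hW'⟩ := hW
      have h1 : SH (A.map β.toMonoidHom) (W.map β.toMonoidHom) :=
        SH.trans hn (hstar A ⟨v0, η, hA'⟩ hA0).symm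
          (hstar W ⟨w1, ω, hW'⟩ (SP.trans hn hA0 ⟨w1, ω1, ω, hW0, hW'⟩))
      exact (hback ⟨w1, ω, hW'⟩ ⟨v, η, hC⟩ (Or.inr (SH.trans hn h1.symm e))).elim hW1 hW2
    have hacP : SP (A.map β.toMonoidHom) (C.map β.toMonoidHom) := (himg (Or.inr hAC)).resolve_right hac
    -- every member of the star at `v`
    have hstar' : ∀ (θ : Fin n → F) (Y : Subgroup Pn), IsRootGroup Y v θ →
        SH (C.map β.toMonoidHom) (Y.map β.toMonoidHom) := by
      intro θ Y hY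
      rcases himg (Or.inl (⟨v, η, θ, hC, hY⟩ : SP C Y)) with e | e
      · rcases hback ⟨v0, η, hA'⟩ ⟨v, θ, hY⟩ (Or.inl (SP.trans hn hacP e)) with e' | e'
        · exact absurd (SP.trans hn hA0 (SP.trans hn e' ⟨v, θ, ψ, hY, hZ⟩)) hp
        · obtain ⟨c, hc, ec⟩ := (sh_iff hn hA' hY).1 e'
          have hYC : Y = C := eq_of_sp_sh hn ⟨v, θ, η, hY, hC⟩ (sh_of_smul hY hC (inv_ne_zero hc)
            (by rw [ec, smul_smul, inv_mul_cancel₀ hc, one_smul]))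
          rw [hYC]
          exact (hself (isRootG_map hn β ⟨v, η, hC⟩)).2
      · exact e
    exact SH.trans hn (hstar' ψ Z hZ).symm (hstar' χ Z' hZ')
  have hgr : ∀ Z : Subgroup Pn, Z.map (graphP * β).toMonoidHom = (Z.map β.toMonoidHom).map graphP.toMonoidHom := fun Z => by
    rw [Subgroup.map_map]; rfl
  refine ⟨fun Z Z' h => ?_, fun Z Z' h => ?_⟩
  · rw [hgr, hgr]
    obtain ⟨a, b, η, h1, h2⟩ := hall Z Z' h
    exact ⟨η, a, b, h1.map_graphP, h2.map_graphP⟩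
  · rw [hgr, hgr]
    suffices SP (Z.map β.toMonoidHom) (Z'.map β.toMonoidHom) by
      obtain ⟨a, η, θ, h1, h2⟩ := this
      exact ⟨η, θ, a, h1.map_graphP, h2.map_graphP⟩
    by_contra hno
    rcases eq_or_ne Z Z' with rfl | hne
    · obtain ⟨v, w, ψ, h1, -⟩ := h
      exact hno (hself (isRootG_map hn β ⟨v, ψ, h1⟩)).1
    have hsh := (himg (Or.inr h)).resolve_left hno
    obtain ⟨W, hW, -, hW1, hW2⟩ := hother h hne
    have h3 : SH (W.map β.toMonoidHom) (Z'.map β.toMonoidHom) := SH.trans hn (hall _ _ hW).symm hsh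
    obtain ⟨v, ψ, χ, h1, h2⟩ := hW
    obtain ⟨v', w', ψ', -, h4⟩ := h
    exact (hback ⟨v, χ, h2⟩ ⟨w', ψ', h4⟩ (Or.inr h3)).elim hW1 hW2

end Cfsg.Lib.Known.AutPSLn
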